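import Groth.Agent.S9576
import Groth.Agent.GLinFree.Dim
import Groth.Agent.CohFinite.ProjSpace
import Groth.Agent.SerreReg.Regular
import Mathlib.RingTheory.RegularLocalRing.Polynomial

/-!
The local rings of projective space: regular, of dimension `n` at closed points.
-/

set_option autoImplicit false
set_option linter.style.haveILetI false
set_option backward.isDefEq.respectTransparency false

universe u

open CategoryTheory AlgebraicGeometry TopologicalSpace

noncomputable section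

namespace Groth.Agent.SerrePn

variable (k : Type u) [Field k] (n : ℕ)

/-- The standard charts are affine spaces. -/
theorem exists_chart (i : Fin (n + 1)) :
    IsAffineOpen (Proj.basicOpen (CohB1.polyGrading n k) (MvPolynomial.X i)) ∧
      Nonempty (MvPolynomial (Fin n) k ≃+*
        Γ(Proj (CohB1.polyGrading n k), Proj.basicOpen (CohB1.polyGrading n k) (MvPolynomial.X i))) := by
  have hX : (MvPolynomial.X i : MvPolynomial (Fin (n + 1)) k) ∈ CohB1.polyGrading n k 1 :=
    MvPolynomial.isHomogeneous_X k i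
  refine ⟨Proj.isAffineOpen_basicOpen (CohB1.polyGrading n k) _ hX one_pos, ⟨?_⟩⟩
  exact ((MvPolynomial.renameEquiv k (finSuccAboveEquiv i)).toRingEquiv.trans
    (RingEquiv.ofBijective _ ((Groth.Agent.S9576.result n k).2 i))).trans
    (Proj.basicOpenIsoAway (CohB1.polyGrading n k) _ hX one_pos).commRingCatIsoToRingEquiv

theorem exists_chart_at (x : CohB1.ProjSpace n k) :
    ∃ U : (CohB1.ProjSpace n k).Opens, x ∈ U ∧ IsAffineOpen U ∧
      Nonempty (MvPolynomial (Fin n) k ≃+* Γ(CohB1.ProjSpace n k, U)) := by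
  obtain ⟨⟨i⟩, hi⟩ := CohFinite.cov_X n k x
  obtain ⟨hU, he⟩ := exists_chart k n i
  exact ⟨_, (ProjectiveSpectrum.mem_basicOpen _ _ x).mpr hi, hU, he⟩

theorem isRegularLocalRing_stalk (x : CohB1.ProjSpace n k) :
    IsRegularLocalRing ((CohB1.ProjSpace n k).presheaf.stalk x) := by
  obtain ⟨U, hxU, hU, ⟨e⟩⟩ := exists_chart_at k n x
  letI := TopCat.Presheaf.algebra_section_stalk (CohB1.ProjSpace n k).presheaf ⟨x, hxU⟩
  haveI := hU.isLocalization_stalk ⟨x, hxU⟩
  haveI : IsRegularRing Γ(CohB1.ProjSpace n k, U) := IsRegularRing.of_ringEquiv e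
  exact IsRegularLocalRing.of_ringEquiv (IsLocalization.algEquiv (hU.primeIdealOf ⟨x, hxU⟩).asIdeal.primeCompl
    (Localization.AtPrime (hU.primeIdealOf ⟨x, hxU⟩).asIdeal) ((CohB1.ProjSpace n k).presheaf.stalk x)).toRingEquiv

theorem isMaximal_primeIdealOf {Y : Scheme.{u}} {U : Y.Opens} (hU : IsAffineOpen U) (y : Y) (hyU : y ∈ U)
    (hy : IsClosed ({y} : Set Y)) : (hU.primeIdealOf ⟨y, hyU⟩).asIdeal.IsMaximal := by
  rw [← PrimeSpectrum.isClosed_singleton_iff_isMaximal]
  have : ({hU.primeIdealOf ⟨y, hyU⟩} : Set (PrimeSpectrum _)) = hU.fromSpec ⁻¹' {y} := by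
    ext q
    simp only [Set.mem_singleton_iff, Set.mem_preimage]
    refine ⟨fun h => h ▸ hU.fromSpec_primeIdealOf ⟨y, hyU⟩, fun h => ?_⟩
    exact hU.fromSpec.isOpenEmbedding.injective (h.trans (hU.fromSpec_primeIdealOf ⟨y, hyU⟩).symm)
  rw [this]
  exact hy.preimage hU.fromSpec.continuous

theorem ringKrullDim_stalk (x : CohB1.ProjSpace n k) (hx : IsClosed ({x} : Set (CohB1.ProjSpace n k))) :
    ringKrullDim ((CohB1.ProjSpace n k).presheaf.stalk x) = n := by
  obtain ⟨U, hxU, hU, ⟨e⟩⟩ := exists_chart_at k n x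
  letI := TopCat.Presheaf.algebra_section_stalk (CohB1.ProjSpace n k).presheaf ⟨x, hxU⟩
  haveI := hU.isLocalization_stalk ⟨x, hxU⟩
  haveI := isMaximal_primeIdealOf hU x hxU hx
  rw [IsLocalization.AtPrime.ringKrullDim_eq_height (hU.primeIdealOf ⟨x, hxU⟩).asIdeal]
  haveI : ((hU.primeIdealOf ⟨x, hxU⟩).asIdeal.map e.symm).IsMaximal := Ideal.map_isMaximal_of_equiv e.symm
  rw [← e.symm.height_map, GLinFree.height_eq_of_isMaximal]
  rfl

theorem ringKrullDim_stalk_le (x : CohB1.ProjSpace n k) :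
    ringKrullDim ((CohB1.ProjSpace n k).presheaf.stalk x) ≤ n := by
  obtain ⟨U, hxU, hU, ⟨e⟩⟩ := exists_chart_at k n x
  letI := TopCat.Presheaf.algebra_section_stalk (CohB1.ProjSpace n k).presheaf ⟨x, hxU⟩
  haveI := hU.isLocalization_stalk ⟨x, hxU⟩
  rw [IsLocalization.AtPrime.ringKrullDim_eq_height (hU.primeIdealOf ⟨x, hxU⟩).asIdeal]
  refine (Ideal.height_le_ringKrullDim_of_ne_top (Ideal.IsPrime.ne_top inferInstance)).trans (le_of_eq ?_)
  rw [← ringKrullDim_eq_of_ringEquiv e, MvPolynomial.ringKrullDim_of_isNoetherianRing,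
    ringKrullDim_eq_zero_of_field, zero_add, Nat.card_fin]

theorem pdLE_stalk (x : CohB1.ProjSpace n k) (M : Type u) [AddCommGroup M]
    [Module ((CohB1.ProjSpace n k).presheaf.stalk x) M] :
    SerreReg.PdLE ((CohB1.ProjSpace n k).presheaf.stalk x) M n := by
  haveI := isRegularLocalRing_stalk k n x
  obtain ⟨d, hd⟩ : ∃ d : ℕ, ringKrullDim ((CohB1.ProjSpace n k).presheaf.stalk x) = d :=
    ⟨_, IsRegularLocalRing.spanFinrank_maximalIdeal.symm⟩
  refine SerreReg.pdLE_mono ?_ (SerreReg.pdLE_of_isRegularLocalRing _ d hd M)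
  have := ringKrullDim_stalk_le k n x
  rw [hd] at this
  exact_mod_cast this

end Groth.Agent.SerrePn
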