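import Groth.Agent.CycDim.DegBase
import Groth.Agent.CycDim.Chains
import Groth.Agent.RegDual.Scheme

/-!
Equidimensional schemes of finite type over a field: the dimension at closed points.
-/

set_option autoImplicit false
set_option linter.style.haveILetI false

universe u

open CategoryTheory AlgebraicGeometry TopologicalSpace

noncomputable section

namespace Groth.Agent.SerrePn

theorem ringKrullDim_stalk_of_equidim {K : Type u} [Field K] {X : Scheme.{u}} (c : X ⟶ Spec (CommRingCat.of K))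
    [LocallyOfFiniteType c] (n : ℕ) (hn : topologicalKrullDim ↥X = n)
    (heq : ∀ Z : Set ↥X, Z ∈ irreducibleComponents ↥X → topologicalKrullDim ↥Z = (n : WithBot ℕ∞))
    (x : X) (hx : IsClosed ({x} : Set ↥X)) : ringKrullDim (X.presheaf.stalk x) = n := by
  refine le_antisymm ((RegDual.ringKrullDim_stalk_le_topologicalKrullDim x).trans hn.le) ?_
  have hZc : IsClosed (irreducibleComponent x) := isClosed_irreducibleComponent
  obtain ⟨η, hη⟩ := QuasiSober.sober (isIrreducible_irreducibleComponent (x := x)) hZc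
  have hηx : η ⤳ x := hη.specializes mem_irreducibleComponent
  have hδ := CycDeg.isDimFun_dl c
  have hmono : ∀ z : X, x ≤ z → CycDeg.dl X x ≤ CycDeg.dl X z := fun z hz => by
    by_cases hzx : z = x
    · rw [hzx]
    · exact (CycDim.delta_lt hδ (CycDim.lt_of_spec (Scheme.le_iff_specializes.1 hz) hzx)).le
  obtain ⟨h1, -⟩ := CycDim.krullDim_eq hδ (fun z => x ≤ z ∧ z ≤ η) η x ⟨Scheme.le_iff_specializes.2 hηx, le_rfl⟩
    ⟨le_rfl, Scheme.le_iff_specializes.2 hηx⟩ (Scheme.le_iff_specializes.2 hηx)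
    (fun z hz => ⟨hz.2, hmono z hz.1⟩) (fun z hz hz' => ⟨hz, hz'⟩)
  have hdη : WeilCoh.pdim X η = n := by
    rw [WeilCoh.pdim, WeilCoh.natDim, hη.def, heq _ (irreducibleComponent_mem_irreducibleComponents x)]
    rfl
  have hdx : WeilCoh.pdim X x = 0 := (WeilLib.pdim_eq_zero_iff c x).2 hx
  have h2 : ((CycDeg.dl X η - CycDeg.dl X x).toNat : WithBot ℕ∞) = (n : WithBot ℕ∞) := by
    simp only [CycDeg.dl, hdη, hdx]
    simp
  rw [ringKrullDim_stalk_eq_coheight, Order.coheight_eq_krullDim_Ici, ← h2, ← h1]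
  exact Order.krullDim_le_of_strictMono (fun z : {z : X // x ≤ z ∧ z ≤ η} => (⟨z.1, z.2.1⟩ : Set.Ici x)) fun a b h => h

end Groth.Agent.SerrePn
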