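import Groth.Agent.SerrePn.Twists
import Groth.Agent.W7Hull.SheafHomExact
import Groth.Agent.W7Flasque.Basic
import Groth.Agent.GrothSS.Global
import Groth.Agent.DerPush.Basic

/-!
`Extⁱ(F, G) = Hⁱ(ℋom(F, G))`, linearly over the base, for finite locally free `F`.
-/

set_option autoImplicit false
set_option linter.style.haveILetI false
set_option linter.unusedSectionVars false
set_option backward.isDefEq.respectTransparency false
set_option backward.isDefEq.respectTransparency.types false

universe u

open CategoryTheory CategoryTheory.Limits AlgebraicGeometry TopologicalSpace Opposite Abelian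

noncomputable section

namespace Groth.Agent.SerrePn

variable {X : Scheme.{u}} (A : Type u) [CommRing A] [X.Over (Spec (CommRingCat.of A))]

/-- Global sections as morphisms out of `O`. -/
def unitEval (M : X.Modules) : (Coh.structureModule X ⟶ M) →ₗ[A] Coh.HH X M 0 where
  toFun φ := CohFinite.hhMap A φ 0
    ((Sheaf.H.equiv₀ (Coh.toAb (Coh.structureModule X)) (isTerminalTop : IsTerminal (⊤ : X.Opens))).symm
      (1 : Γ(X, ⊤)))
  map_add' φ ψ := by rw [hhMap_add]; rfl
  map_smul' a φ := by rw [hhMap_smul]; rfl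

lemma unitEval_bijective (M : X.Modules) : Function.Bijective (unitEval A M) := by
  let hT : IsTerminal (⊤ : X.Opens) := isTerminalTop
  have h : ∀ φ, Sheaf.H.equiv₀ _ hT (unitEval A M φ) = φ.app ⊤ (1 : Γ(X, ⊤)) := fun φ =>
    (h0_natural A φ _).trans (congrArg _ (AddEquiv.apply_symm_apply _ _))
  refine ⟨(injective_iff_map_eq_zero _).2 fun φ hφ => LinRes.eq_zero_of_gen (Iso.refl _) φ ?_, fun y => ?_⟩
  · show φ.app ⊤ (1 : Γ(X, ⊤)) = 0
    rw [← h, hφ, map_zero]
  · refine ⟨GrT.homOfSection M (Sheaf.H.equiv₀ _ hT y), (Sheaf.H.equiv₀ _ hT).injective ?_⟩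
    rw [h]
    refine (GrT.homOfSection_app M _ ⊤ _).trans ?_
    rw [one_smul, Groth.Agent.QC.res_self]

lemma tensor_linear (F : X.Modules) [((DCoh.tensorBi (X := X)).obj F).Additive] :
    ((DCoh.tensorBi (X := X)).obj F).Linear A := by
  refine (Functor.linear_iff A _).mpr fun M a => TMul.hom_ext fun U f m => ?_
  refine (W7Hull.map_tm F (a • 𝟙 M) f m).trans ?_
  rw [KLin.smul_app_apply]
  exact (TMul.tm_smul _ _ _).trans (KLin.smul_app_apply a (𝟙 _) U (TMul.tm f m)).symm

variable (F : X.Modules) [DCoh.HasSheafHom F]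

lemma sheafHom_linear [(DCoh.sheafHom F).Additive] : (DCoh.sheafHom F).Linear A := by
  haveI : ((DCoh.tensorBi (X := X)).obj F).Additive := (DCoh.sheafHomAdj F).left_adjoint_additive
  haveI := tensor_linear A F
  refine (Functor.linear_iff A _).mpr fun M a => ?_
  let adj := DCoh.sheafHomAdj F
  apply (adj.homEquiv _ M).symm.injective
  rw [adj.homEquiv_counit, adj.homEquiv_counit, adj.counit_naturality, Functor.map_smul, CategoryTheory.Functor.map_id,
    Linear.smul_comp, Category.id_comp, Linear.comp_smul, Category.comp_id]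

/-- Morphisms as global sections of the internal Hom. -/
def homEval [(DCoh.sheafHom F).Additive] (G : X.Modules) : (F ⟶ G) →ₗ[A] Coh.HH X ((DCoh.sheafHom F).obj G) 0 where
  toFun φ := unitEval A _ ((DCoh.sheafHomAdj F).unit.app (Coh.structureModule X) ≫
    (DCoh.sheafHom F).map ((SecTwist.unitorR F).hom ≫ φ))
  map_add' φ ψ := by rw [Preadditive.comp_add, Functor.map_add, Preadditive.comp_add, map_add]
  map_smul' a φ := by
    haveI := sheafHom_linear A F
    rw [Linear.comp_smul, Functor.map_smul, Linear.comp_smul, map_smul]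
    rfl

lemma homEval_bijective [(DCoh.sheafHom F).Additive] (G : X.Modules) : Function.Bijective (homEval A F G) :=
  (unitEval_bijective A _).comp
    (((SecTwist.unitorR F).homFromEquiv (Z := G)).symm.trans
      ((DCoh.sheafHomAdj F).homEquiv (Coh.structureModule X) G)).bijective

lemma homEval_comp [(DCoh.sheafHom F).Additive] {G G' : X.Modules} (φ : F ⟶ G) (g : G ⟶ G') :
    homEval A F G' (φ ≫ g) = CohFinite.hhMap A ((DCoh.sheafHom F).map g) 0 (homEval A F G φ) := by
  show CohFinite.hhMap A _ 0 _ = CohFinite.hhMap A _ 0 (CohFinite.hhMap A _ 0 _)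
  rw [← CohFinite.hhMap_comp, Category.assoc, ← Functor.map_comp, Category.assoc]

lemma hh_sheafHom_injective (I : X.Modules) [Injective I] (q : ℕ) :
    Subsingleton (Coh.HH X ((DCoh.sheafHom F).obj I) (q + 1)) := by
  haveI : ModSite.HasSheafHom (O := X.sheaf) F := ModSiteTensor.hasSheafHom (O := X.sheaf) F
  haveI : Injective (show ModSite.Mod X.sheaf from I) := ‹_›
  let e : ModSite.sheafHom (O := X.sheaf) F ≅ DCoh.sheafHom F :=
    (ModSite.sheafHomAdj (O := X.sheaf) F).rightAdjointUniq
      ((DCoh.sheafHomAdj F).ofNatIsoLeft (W7Flasque.tensorIso F).symm)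
  have h := GrothSS.subsingleton_ext_constZ_sheafHom (O := X.sheaf) F I q
  exact (((extFunctorObj (SiteCoh.constZ _) (q + 1)).mapIso
    ((SheafOfModules.toSheaf (ModSite.ringSh X.sheaf)).mapIso (e.app I))).addCommGroupIsoToAddEquiv).toEquiv.subsingleton_congr.1 h

section Ext

variable [HasExt.{u} X.Modules]

/-- The connecting map of a morphism into a quotient. -/
def coconn {S : ShortComplex X.Modules} (hS : S.ShortExact) (P : X.Modules) :
    (P ⟶ S.X₃) →ₗ[A] Ext P S.X₁ 1 :=
  (hS.extClass.postcompOfLinear A P rfl).comp (Ext.linearEquiv₀ (R := A)).symm.toLinearMap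

lemma coconn_apply {S : ShortComplex X.Modules} (hS : S.ShortExact) (P : X.Modules) (φ : P ⟶ S.X₃) :
    coconn A hS P φ = (Ext.mk₀ φ).comp hS.extClass rfl := rfl

theorem ext_equiv_hh (hF : FlatMod.IsFinLocFree F) (j : ℕ) :
    ∀ G : X.Modules, Nonempty (Ext F G j ≃ₗ[A] Coh.HH X ((DCoh.sheafHom F).obj G) j) := by
  haveI := enoughInjectives (X := X)
  haveI : PreservesFiniteColimits (DCoh.sheafHom F) := W7Hull.preservesFiniteColimits_sheafHom F hF
  haveI : (DCoh.sheafHom F).Additive := (DCoh.sheafHomAdj F).right_adjoint_additive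
  haveI : PreservesFiniteLimits (DCoh.sheafHom F) :=
    haveI : PreservesLimitsOfSize.{0, 0} (DCoh.sheafHom F) := (DCoh.sheafHomAdj F).rightAdjoint_preservesLimits
    inferInstance
  induction j with
  | zero =>
    exact fun G => ⟨(Ext.linearEquiv₀ (R := A)).trans (LinearEquiv.ofBijective _ (homEval_bijective A F G))⟩
  | succ j ih =>
    intro G
    let S : ShortComplex X.Modules := ShortComplex.mk (Injective.ι G) (cokernel.π _) (cokernel.condition _)
    have hS : S.ShortExact := { exact := ShortComplex.exact_cokernel _ }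
    have hT : (S.map (DCoh.sheafHom F)).ShortExact := hS.map_of_exact _
    haveI : Injective S.X₂ := inferInstanceAs (Injective (Injective.under G))
    rcases j with _ | j
    · let δ := CohFinite.hhδ A hT 0
      let c := coconn A hS F
      let Φ : (F ⟶ S.X₃) →ₗ[A] Coh.HH X (S.map (DCoh.sheafHom F)).X₁ 1 := δ.comp (homEval A F S.X₃)
      have hΦ : Function.Surjective Φ := by
        refine Function.Surjective.comp (g := δ) (fun y => ?_) (homEval_bijective A F S.X₃).2
        exact (CohFinite.map_f_eq_zero_iff (CohFinite.shortExact_toAb hT) 0 y).1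
          (@Subsingleton.elim _ (hh_sheafHom_injective F S.X₂ 0) _ _)
      have hc : Function.Surjective c := fun x => by
        obtain ⟨y, rfl⟩ := Ext.covariant_sequence_exact₁ F hS x (Ext.eq_zero_of_injective _) (zero_add 1)
        obtain ⟨φ, rfl⟩ := (Ext.mk₀_bijective _ _).2 y
        exact ⟨φ, rfl⟩
      have hker : LinearMap.ker c = LinearMap.ker Φ := by
        ext φ
        rw [LinearMap.mem_ker, LinearMap.mem_ker]
        show (Ext.mk₀ φ).comp hS.extClass rfl = 0 ↔ δ (homEval A F S.X₃ φ) = 0
        constructor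
        · intro h
          obtain ⟨x, hx⟩ := Ext.covariant_sequence_exact₃ F hS (Ext.mk₀ φ) rfl h
          obtain ⟨ψ, rfl⟩ := (Ext.mk₀_bijective _ _).2 x
          rw [Ext.mk₀_comp_mk₀] at hx
          obtain rfl := (Ext.mk₀_bijective _ _).1 hx
          exact (CohFinite.δH_eq_zero_iff (CohFinite.shortExact_toAb hT) 0 _).2
            ⟨homEval A F S.X₂ ψ, (homEval_comp A F ψ S.g).symm⟩
        · intro h
          obtain ⟨y, hy⟩ := (CohFinite.δH_eq_zero_iff (CohFinite.shortExact_toAb hT) 0 _).1 h
          obtain ⟨ψ, rfl⟩ := (homEval_bijective A F S.X₂).2 y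
          obtain rfl := (homEval_bijective A F S.X₃).1 (hy.symm.trans (homEval_comp A F ψ S.g).symm)
          rw [← Ext.mk₀_comp_mk₀, Ext.comp_assoc (Ext.mk₀ ψ) (Ext.mk₀ S.g) hS.extClass (add_zero 0) (zero_add 1)
            (by omega), hS.comp_extClass, Ext.comp_zero]
      exact ⟨((c.quotKerEquivOfSurjective hc).symm.trans (Submodule.quotEquivOfEq _ _ hker)).trans
        (Φ.quotKerEquivOfSurjective hΦ)⟩
    · obtain ⟨e⟩ := ih S.X₃
      have h₁ : Function.Bijective (hS.extClass.postcompOfLinear A F (rfl : j + 1 + 1 = j + 1 + 1)) := by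
        refine ⟨(injective_iff_map_eq_zero _).2 fun x hx => ?_, fun y => ?_⟩
        · obtain ⟨z, rfl⟩ := Ext.covariant_sequence_exact₃ F hS x rfl hx
          rw [Ext.eq_zero_of_injective z, Ext.zero_comp]
        · exact Ext.covariant_sequence_exact₁ F hS y (Ext.eq_zero_of_injective _) rfl
      have h₂ : Function.Bijective (CohFinite.hhδ A hT (j + 1)) := by
        refine ⟨(injective_iff_map_eq_zero _).2 fun x hx => ?_, fun y => ?_⟩
        · obtain ⟨z, rfl⟩ := (CohFinite.δH_eq_zero_iff (CohFinite.shortExact_toAb hT) (j + 1) x).1 hx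
          rw [show z = 0 from @Subsingleton.elim _ (hh_sheafHom_injective F S.X₂ j) _ _]
          exact map_zero _
        · exact (CohFinite.map_f_eq_zero_iff (CohFinite.shortExact_toAb hT) (j + 1) y).1
            (@Subsingleton.elim _ (hh_sheafHom_injective F S.X₂ (j + 1)) _ _)
      exact ⟨(LinearEquiv.ofBijective _ h₁).symm.trans (e.trans (LinearEquiv.ofBijective _ h₂))⟩

end Ext

end Groth.Agent.SerrePn
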