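import Groth.Agent.SerrePn.ClosedDual
import Groth.Agent.SerrePn.Equidim
import Groth.Agent.SerrePn.SheafHomExt

/-!
Consequences for Cohen–Macaulay closed subschemes of projective space.
-/

set_option autoImplicit false
set_option linter.style.haveILetI false
set_option backward.isDefEq.respectTransparency false
set_option backward.isDefEq.respectTransparency.types false

universe u

open CategoryTheory CategoryTheory.Limits AlgebraicGeometry TopologicalSpace Opposite Abelian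

noncomputable section

namespace Groth.Agent.SerrePn

variable {k : Type u} [Field k] {N n : ℕ} {X : Scheme.{u}} (f : X ⟶ CohB1.ProjSpace N k) [IsClosedImmersion f]
  [X.Over (Spec (CommRingCat.of k))] (hf : f ≫ CohB1.ProjSpace.toSpec N k = X ↘ Spec (CommRingCat.of k))

omit [X.Over (Spec (CommRingCat.of k))] in
theorem van_unit_of_cm
    (hCM : ∀ x : X, IsClosed ({x} : Set ↥X) →
      LocCoh.IsCohenMacaulayLocalRing (X.presheaf.stalk x) ∧ ringKrullDim (X.presheaf.stalk x) = n)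
    (i : ℕ) (hi : i < n) : Van ((Scheme.Modules.pushforward f).obj (Coh.structureModule X)) i :=
  van_push_of_cm f hCM (ResDesc.isFinLocFree_structureModule X) i hi

include hf in
theorem duality_of_cm [HasExt.{u} X.Modules]
    (hCM : ∀ x : X, IsClosed ({x} : Set ↥X) →
      LocCoh.IsCohenMacaulayLocalRing (X.presheaf.stalk x) ∧ ringKrullDim (X.presheaf.stalk x) = n)
    (ω : X.Modules) (hω : Coh.IsCoh ω) (t : Coh.HH X ω n →ₗ[k] k)
    (hdual : ∀ F : X.Modules, Coh.IsCoh F → ∀ ψ : Coh.HH X F n →ₗ[k] k, ∃! φ : F ⟶ ω, ∀ x : Coh.HH X F n,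
      ψ x = t (Sheaf.H.map ((SheafOfModules.toSheaf X.ringCatSheaf).map φ) n x))
    (F : X.Modules) (hF : Coh.IsCoh F) (m : ℕ) :
    (m ≤ n → Nonempty (Ext F ω m ≃ₗ[k] Module.Dual k (Coh.HH X F (n - m)))) ∧
      (n < m → Subsingleton (Ext F ω m)) :=
  duality f hf ω hω t hdual (van_unit_of_cm f hCM) m F hF

include hf in
theorem subsingleton_ext_iff [HasExt.{u} X.Modules]
    (hCM : ∀ x : X, IsClosed ({x} : Set ↥X) →
      LocCoh.IsCohenMacaulayLocalRing (X.presheaf.stalk x) ∧ ringKrullDim (X.presheaf.stalk x) = n)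
    (ω : X.Modules) (hω : Coh.IsCoh ω) (t : Coh.HH X ω n →ₗ[k] k)
    (hdual : ∀ F : X.Modules, Coh.IsCoh F → ∀ ψ : Coh.HH X F n →ₗ[k] k, ∃! φ : F ⟶ ω, ∀ x : Coh.HH X F n,
      ψ x = t (Sheaf.H.map ((SheafOfModules.toSheaf X.ringCatSheaf).map φ) n x))
    (F : X.Modules) (hF : Coh.IsCoh F) (i : ℕ) (hi : i ≤ n) :
    Subsingleton (Ext F ω i) ↔ Subsingleton (Coh.HH X F (n - i)) := by
  obtain ⟨e⟩ := (duality_of_cm f hf hCM ω hω t hdual F hF i).1 hi
  rw [e.toEquiv.subsingleton_congr, Module.subsingleton_dual_iff]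

include hf in
theorem cm_of_iff [HasExt.{u} X.Modules] (hn : topologicalKrullDim ↥X = n) (ω : X.Modules) (hω : Coh.IsCoh ω)
    (h : ∀ F : X.Modules, Coh.IsCoh F → ∀ i : ℕ, i ≤ n →
      (Subsingleton (Ext F ω i) ↔ Subsingleton (Coh.HH X F (n - i))))
    (x : X) (hx : IsClosed ({x} : Set ↥X)) :
    LocCoh.IsCohenMacaulayLocalRing (X.presheaf.stalk x) ∧ ringKrullDim (X.presheaf.stalk x) = n := by
  haveI := CohFinite.isNoetherian_projSpace N k
  haveI := isLocallyNoetherian_of_immersion f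
  obtain ⟨A, hA⟩ := exists_ext_vanish f hf ω hω
  refine cm_of_van_push f hn RefStalk.isCoh_structureModule (fun j hj => ⟨A, fun m hm => ?_⟩) x hx
  obtain ⟨M, rfl⟩ : ∃ M : ℕ, m = M := ⟨m.toNat, by omega⟩
  refine (hh_twist_iff f hf _ RefStalk.isCoh_structureModule _ j).1 ?_
  refine CohQC.hh_subsingleton_of_iso (TMul.leftUnitIso (Lx f (-(M : ℤ)))).symm j ?_
  have h' := h (Lx f (-(M : ℤ))) (isCoh_Lx f _) (n - j) (Nat.sub_le _ _)
  obtain ⟨q, hq⟩ : ∃ q, n - j = q + 1 := ⟨n - j - 1, by omega⟩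
  rw [show n - (n - j) = j by omega, hq] at h'
  exact h'.1 (hA M (by exact_mod_cast hm) q)

include hf in
theorem vanish_vb_of_cm
    (hCM : ∀ x : X, IsClosed ({x} : Set ↥X) →
      LocCoh.IsCohenMacaulayLocalRing (X.presheaf.stalk x) ∧ ringKrullDim (X.presheaf.stalk x) = n)
    (F : X.Modules) (hF : FlatMod.IsFinLocFree F) :
    ∃ q₀ : ℕ, ∀ q : ℕ, q₀ ≤ q → ∀ j : ℕ, j < n →
      Subsingleton (Coh.HH X (CohB1.tensorMod F (Lx f (-(q : ℤ)))) j) := by
  obtain ⟨m₀, hm₀⟩ := exists_uniform (van_push_of_cm f hCM hF)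
  refine ⟨m₀.toNat, fun q hq j hj => ?_⟩
  exact (hh_twist_iff f hf F ⟨LocFree.isQCoh_of_isFinLocFree hF, LocFree.isFT_of_isFinLocFree hF⟩ _ j).2
    (hm₀ q (by omega) j hj)

include hf in
theorem cm_of_vanish_vb (hn : topologicalKrullDim ↥X = n)
    (h : ∀ F : X.Modules, FlatMod.IsFinLocFree F → ∃ q₀ : ℕ, ∀ q : ℕ, q₀ ≤ q → ∀ j : ℕ, j < n →
      Subsingleton (Coh.HH X (CohB1.tensorMod F (Lx f (-(q : ℤ)))) j))
    (x : X) (hx : IsClosed ({x} : Set ↥X)) :
    LocCoh.IsCohenMacaulayLocalRing (X.presheaf.stalk x) ∧ ringKrullDim (X.presheaf.stalk x) = n := by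
  haveI := CohFinite.isNoetherian_projSpace N k
  haveI := isLocallyNoetherian_of_immersion f
  obtain ⟨q₀, hq₀⟩ := h _ (ResDesc.isFinLocFree_structureModule X)
  refine cm_of_van_push f hn RefStalk.isCoh_structureModule (fun j hj => ⟨q₀, fun m hm => ?_⟩) x hx
  obtain ⟨M, rfl⟩ : ∃ M : ℕ, m = M := ⟨m.toNat, by omega⟩
  exact (hh_twist_iff f hf _ RefStalk.isCoh_structureModule _ j).1 (hq₀ M (by exact_mod_cast hm) j hj)

include hf in
theorem duality_vb [IsLocallyNoetherian X]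
    (hCM : ∀ x : X, IsClosed ({x} : Set ↥X) →
      LocCoh.IsCohenMacaulayLocalRing (X.presheaf.stalk x) ∧ ringKrullDim (X.presheaf.stalk x) = n)
    (ω : X.Modules) (hω : Coh.IsCoh ω) (t : Coh.HH X ω n →ₗ[k] k)
    (hdual : ∀ F : X.Modules, Coh.IsCoh F → ∀ ψ : Coh.HH X F n →ₗ[k] k, ∃! φ : F ⟶ ω, ∀ x : Coh.HH X F n,
      ψ x = t (Sheaf.H.map ((SheafOfModules.toSheaf X.ringCatSheaf).map φ) n x))
    (F : X.Modules) (hF : FlatMod.IsFinLocFree F) [DCoh.HasSheafHom F] (i : ℕ) (hi : i ≤ n) :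
    Nonempty (Module.Dual k (Coh.HH X F i) ≃ₗ[k] Coh.HH X ((DCoh.sheafHom F).obj ω) (n - i)) := by
  haveI := enoughInjectives (X := X)
  haveI : HasExt.{u} X.Modules := hasExt_of_enoughInjectives X.Modules
  obtain ⟨e⟩ := (duality_of_cm f hf hCM ω hω t hdual F
    ⟨LocFree.isQCoh_of_isFinLocFree hF, LocFree.isFT_of_isFinLocFree hF⟩ (n - i)).1 (Nat.sub_le _ _)
  obtain ⟨g⟩ := ext_equiv_hh k F hF (n - i) ω
  rw [show n - (n - i) = i by omega] at e
  exact ⟨e.symm.trans g⟩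

end Groth.Agent.SerrePn
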