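import Groth.Agent.S0927
import Groth.Agent.CohFinite.PushLinear
import Groth.Agent.ResDesc.ResProp
import Groth.Agent.RegTilde.LinRes
import Groth.Agent.GrT.TwistEpi

/-!
Twists along a closed immersion, and global generation of regular modules.
-/

set_option autoImplicit false
set_option linter.style.haveILetI false
set_option backward.isDefEq.respectTransparency false
set_option backward.isDefEq.respectTransparency.types false

universe u

open CategoryTheory CategoryTheory.Limits AlgebraicGeometry TopologicalSpace Opposite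

noncomputable section

namespace Groth.Agent.SerrePn

section Closed

variable {X Y : Scheme.{u}}

/-- The projection formula in degree zero, twisted on the right. -/
theorem nonempty_pushTwist (i : X ⟶ Y) (F : X.Modules) {L : Y.Modules} (hL : PicF.IsInvertible L) :
    Nonempty (CohB1.tensorMod ((Scheme.Modules.pushforward i).obj F) L ≅
      (Scheme.Modules.pushforward i).obj (CohB1.tensorMod F ((Scheme.Modules.pullback i).obj L))) :=
  ⟨TMul.commIso _ _ ≪≫ (S0927.projIso i L (ResDesc.isFinLocFree_of_isInvertible hL)).app F ≪≫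
    (Scheme.Modules.pushforward i).mapIso (TMul.commIso _ _)⟩

/-- Cohomology of a twisted module on a closed subscheme. -/
theorem nonempty_hh_pushTwist (A : Type u) [CommRing A] [X.Over (Spec (CommRingCat.of A))]
    [Y.Over (Spec (CommRingCat.of A))] (i : X ⟶ Y) [IsAffineHom i]
    (hi : i ≫ (Y ↘ Spec (CommRingCat.of A)) = X ↘ Spec (CommRingCat.of A))
    (F : X.Modules) [hF : F.IsQuasicoherent] {L : Y.Modules} (hL : PicF.IsInvertible L) (q : ℕ) :
    Nonempty (Coh.HH X (CohB1.tensorMod F ((Scheme.Modules.pullback i).obj L)) q ≃ₗ[A]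
      Coh.HH Y (CohB1.tensorMod ((Scheme.Modules.pushforward i).obj F) L) q) := by
  haveI : (CohB1.tensorMod F ((Scheme.Modules.pullback i).obj L)).IsQuasicoherent :=
    TMul.isQCoh_tensor (PicLoc.isInvertible_pullback i hL)
  obtain ⟨e⟩ := CohFinite.hh_push_linear A i hi _ (CohQC.directAcyclic_of_isAffineHom i (CohB1.tensorMod F ((Scheme.Modules.pullback i).obj L))) q
  obtain ⟨f⟩ := nonempty_pushTwist i F hL
  exact ⟨e.trans (CohFinite.hhEquiv A f.symm q)⟩

lemma eq_zero_of_push (i : X ⟶ Y) [IsClosedImmersion i] {G C : X.Modules} (h : G ⟶ C)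
    (h0 : (Scheme.Modules.pushforward i).map h = 0) : h = 0 := by
  refine Scheme.Modules.hom_ext _ _ fun U => ?_
  obtain ⟨V, hV, hVU⟩ := i.isClosedEmbedding.isInducing.isOpen_iff.1 U.2
  obtain rfl : i ⁻¹ᵁ ⟨V, hV⟩ = U := Opens.ext hVU
  ext s
  exact congrArg (fun φ : (Scheme.Modules.pushforward i).obj G ⟶ (Scheme.Modules.pushforward i).obj C =>
    φ.app ⟨V, hV⟩ s) h0

/-- Global generation descends to a closed subscheme. -/
theorem isGloballyGenerated_of_push (i : X ⟶ Y) [IsClosedImmersion i] (G : X.Modules)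
    (h : Curv2.IsGloballyGenerated ((Scheme.Modules.pushforward i).obj G)) : Curv2.IsGloballyGenerated G := by
  obtain ⟨ι, p, hp⟩ := h
  let ιY : ι → (Coh.structureModule Y ⟶ (SheafOfModules.free (R := Y.ringCatSheaf) ι : Y.Modules)) := fun j =>
    Sigma.ι (fun _ : ι => SheafOfModules.unit Y.ringCatSheaf) j
  let s : ι → Γ(G, ⊤) := fun j => (ιY j ≫ p).app ⊤ (1 : Γ(Y, ⊤))
  let q : (SheafOfModules.free (R := X.ringCatSheaf) ι : X.Modules) ⟶ G :=
    Sigma.desc fun j => GrT.homOfSection G (s j)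
  let C : X.Modules := cokernel q
  let π : G ⟶ C := cokernel.π q
  refine ⟨ι, q, Abelian.epi_of_cokernel_π_eq_zero q (eq_zero_of_push i π ?_)⟩
  rw [← cancel_epi p, comp_zero]
  refine Sigma.hom_ext _ _ fun j => ?_
  rw [comp_zero, ← Category.assoc]
  refine LinRes.eq_zero_of_gen (Iso.refl _) _ ?_
  show π.app ⊤ (s j) = 0
  have e : GrT.homOfSection G (s j) ≫ π = 0 := by
    rw [show GrT.homOfSection G (s j) = Sigma.ι (fun _ : ι => SheafOfModules.unit X.ringCatSheaf) j ≫ q from
      (Sigma.ι_desc (fun j => GrT.homOfSection G (s j)) j).symm, Category.assoc]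
    exact (congrArg (Sigma.ι (fun _ : ι => SheafOfModules.unit X.ringCatSheaf) j ≫ ·) (cokernel.condition q)).trans comp_zero
  have e' := congrArg (fun φ : Coh.structureModule X ⟶ C => φ.app ⊤ (1 : Γ(X, ⊤))) e
  refine Eq.trans ?_ e'
  show _ = π.app ⊤ ((GrT.homOfSection G (s j)).app ⊤ (1 : Γ(X, ⊤)))
  rw [GrT.homOfSection_app, one_smul, Groth.Agent.QC.res_self]

end Closed

section Regular

variable {k : Type u} [Field k] {n : ℕ}

/-- Regular modules have globally generated twists. -/
theorem isGloballyGenerated_twist (F : (CohB1.ProjSpace n k).Modules) (hF : Coh.IsCoh F) (m : ℤ)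
    (h : Curv2.IsMRegular k n F m) :
    Curv2.IsGloballyGenerated (CohB1.tensorMod F (Twist.twistProjSpace n k m)) := by
  obtain ⟨b, φ, hφ, -⟩ := LinRes.exists_of_reg F hF m h
  obtain ⟨i⟩ := RegCx.twist_twist (k := k) (n := n) (-m) m 0 (by ring)
  obtain ⟨j₀⟩ := GrT.nonempty_twist_zero_iso (𝒜 := CohB1.polyGrading n k)
  let T : Fin b → (CohB1.ProjSpace n k).Modules := fun _ => Twist.twistProjSpace n k (-m)
  let L := Twist.twistProjSpace n k m
  let θ : CohB1.tensorMod (Twist.twistProjSpace n k (-m)) L ≅ Coh.structureModule _ := i ≪≫ j₀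
  let q : (SheafOfModules.free (R := (CohB1.ProjSpace n k).ringCatSheaf) (ULift.{u} (Fin b)) :
      (CohB1.ProjSpace n k).Modules) ⟶ CohB1.tensorMod F L :=
    Sigma.desc fun t => θ.inv ≫ CohFinite.tmap (Sigma.ι T t.down ≫ φ) L
  refine ⟨ULift.{u} (Fin b), q, Abelian.epi_of_cokernel_π_eq_zero q ?_⟩
  have hS : (ShortComplex.mk (kernel.ι φ) φ (kernel.condition φ)).ShortExact :=
    { exact := ShortComplex.exact_of_f_is_kernel _ (kernelIsKernel φ) }
  haveI := (CohFinite.shortExact_tmap (CohFinite.isInvertible_twist n k m) hS).epi_g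
  rw [← cancel_epi (CohFinite.tmap φ L), comp_zero]
  obtain ⟨π, hπ⟩ := LinRes.exists_total (b := b) (Twist.twistProjSpace n k (-m))
  have h1 : ∀ t, CohFinite.tmap (Sigma.ι T t ≫ φ) L ≫ cokernel.π q = 0 := fun t => by
    refine (cancel_epi θ.inv).1 ?_
    rw [comp_zero, ← Category.assoc,
      show θ.inv ≫ CohFinite.tmap (Sigma.ι T t ≫ φ) L = Sigma.ι (fun _ : ULift.{u} (Fin b) =>
        SheafOfModules.unit (CohB1.ProjSpace n k).ringCatSheaf) ⟨t⟩ ≫ q from (Sigma.ι_desc (fun t : ULift.{u} (Fin b) => θ.inv ≫ CohFinite.tmap (Sigma.ι T t.down ≫ φ) L) ⟨t⟩).symm,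
      Category.assoc, cokernel.condition, comp_zero]
  rw [show φ = ∑ t, π t ≫ (Sigma.ι T t ≫ φ) by
    simp only [← Category.assoc]; rw [← Preadditive.sum_comp, hπ, Category.id_comp]]
  rw [CohFinite.tmap_sum, Preadditive.sum_comp]
  exact Finset.sum_eq_zero fun t _ => by rw [CohFinite.tmap_comp, Category.assoc, h1, comp_zero]

theorem regular_of_le (F : (CohB1.ProjSpace n k).Modules) (hF : Coh.IsCoh F) (m : ℤ)
    (h : Curv2.IsMRegular k n F m) (m' : ℤ) (hm : m ≤ m') : Curv2.IsMRegular k n F m' := by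
  obtain ⟨e, rfl⟩ : ∃ e : ℕ, m' = m + e := ⟨(m' - m).toNat, by omega⟩
  exact Mumford.regular_add F hF m h e

/-- All higher cohomology of a regular module vanishes in the regular range. -/
theorem vanish_of_regular (F : (CohB1.ProjSpace n k).Modules) (hF : Coh.IsCoh F) (m : ℤ)
    (h : Curv2.IsMRegular k n F m) (q : ℕ) (r : ℤ) (hq : 1 ≤ q) (hr : m - q ≤ r) :
    Subsingleton (Coh.HH (CohB1.ProjSpace n k) (CohB1.tensorMod F (Twist.twistProjSpace n k r)) q) := by
  rcases le_or_gt q n with hqn | hqn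
  · have := regular_of_le F hF m h (r + q) (by omega) q hq hqn
    rwa [add_sub_cancel_right] at this
  · exact RegCx.hh_above F hF.1 r q hqn

end Regular

end Groth.Agent.SerrePn
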