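import Groth.Agent.RegTilde.LinRes
import Groth.Agent.PlaneForms.Basic
import Groth.Agent.ProjCech.Main
import Groth.Agent.Horrocks.Dim
import Groth.Agent.ResDesc.CartierFam
import Groth.Prelude.Def_KLin

/-!
The cohomology functors are linear for the `k`-linear structure on modules; spaces of maps between twists.
-/

set_option autoImplicit false
set_option linter.style.haveILetI false
set_option linter.unusedSectionVars false
set_option backward.isDefEq.respectTransparency false

universe u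

open CategoryTheory CategoryTheory.Limits AlgebraicGeometry TopologicalSpace Opposite
open Groth.Agent.QC (res resO res_res res_self res_smul app_res)

noncomputable section

namespace Groth.Agent.SerrePn

section General

variable {X : Scheme.{u}} (A : Type u) [CommRing A] [X.Over (Spec (CommRingCat.of A))]

lemma hhMap_add {M N : X.Modules} (f g : M ⟶ N) (q : ℕ) :
    CohFinite.hhMap A (f + g) q = CohFinite.hhMap A f q + CohFinite.hhMap A g q :=
  LinearMap.ext fun x =>
    (congr_arg (fun φ => Sheaf.H.map φ q x) ((CohQC.toAbF X).map_add (f := f) (g := g))).trans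
      (Sheaf.H.map_add_apply _ _ _)

lemma toAbMap_smulMod (M : X.Modules) (a : A) :
    CohFinite.toAbMap (Formal.smulMod A M a) =
      Coh.smulAb M (Coh.toGlobal (X ↘ Spec (CommRingCat.of A)) a) := by
  ext U m
  rfl

lemma hhMap_smul {M N : X.Modules} (f : M ⟶ N) (a : A) (q : ℕ) :
    CohFinite.hhMap A (a • f) q = a • CohFinite.hhMap A f q := by
  refine LinearMap.ext fun x => ?_
  rw [KLin.smul_def, CohFinite.hhMap_comp, LinearMap.smul_apply, ← map_smul]
  refine congrArg (CohFinite.hhMap A f q) ?_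
  show Sheaf.H.map (CohFinite.toAbMap (Formal.smulMod A M a)) q x = _
  rw [toAbMap_smulMod]
  rfl

/-- The map on cohomology, linear in the morphism. -/
def hhHom (M N : X.Modules) (q : ℕ) : (M ⟶ N) →ₗ[A] (Coh.HH X M q →ₗ[A] Coh.HH X N q) where
  toFun f := CohFinite.hhMap A f q
  map_add' f g := hhMap_add A f g q
  map_smul' a f := hhMap_smul A f a q

@[simp] lemma hhHom_apply {M N : X.Modules} (q : ℕ) (f : M ⟶ N) :
    hhHom A M N q f = CohFinite.hhMap A f q := rfl

lemma app_smulMod (M : X.Modules) (a : A) {U : X.Opens} (m : Γ(M, U)) :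
    (Formal.smulMod A M a).app U m =
      X.presheaf.map (homOfLE (le_top : U ≤ ⊤)).op (Coh.toGlobal (X ↘ Spec (CommRingCat.of A)) a) • m :=
  KLin.smulModΓ_app_apply M _ U m

lemma tmap_smul {M N : X.Modules} (f : M ⟶ N) (a : A) (L : X.Modules) :
    CohFinite.tmap (a • f) L = a • CohFinite.tmap f L := by
  refine TMul.hom_ext fun U m l => ?_
  rw [CohFinite.tmap_tm, KLin.smul_app_apply, KLin.smul_app_apply, CohFinite.tmap_tm, TMul.smul_tm]

lemma h0_natural {M N : X.Modules} (φ : M ⟶ N) (z : Coh.HH X M 0) :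
    Sheaf.H.equiv₀ (Coh.toAb N) (isTerminalTop : IsTerminal (⊤ : X.Opens)) (CohFinite.hhMap A φ 0 z) =
      φ.app ⊤ (Sheaf.H.equiv₀ (Coh.toAb M) (isTerminalTop : IsTerminal (⊤ : X.Opens)) z) :=
  (Sheaf.H.equiv₀_naturality _ _ _).symm

/-- Morphisms out of `L` are sections of `F ⊗ L⁻¹`. -/
theorem nonempty_homEquiv {L L' : X.Modules} (hL' : PicF.IsInvertible L')
    (θ : CohB1.tensorMod L' L ≅ Coh.structureModule X) (F : X.Modules) :
    Nonempty ((L ⟶ F) ≃ₗ[A] Coh.HH X (CohB1.tensorMod F L') 0) := by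
  let hT : IsTerminal (⊤ : X.Opens) := isTerminalTop
  let g : Coh.HH X (CohB1.tensorMod L L') 0 := (Sheaf.H.equiv₀ _ hT).symm (LinRes.gen₀ θ)
  have hg : Sheaf.H.equiv₀ _ hT g = LinRes.gen₀ θ := AddEquiv.apply_symm_apply _ _
  let E : (L ⟶ F) →ₗ[A] Coh.HH X (CohB1.tensorMod F L') 0 :=
    { toFun := fun φ => CohFinite.hhMap A (CohFinite.tmap φ L') 0 g
      map_add' := fun φ ψ => by rw [CohFinite.tmap_add, hhMap_add]; rfl
      map_smul' := fun a φ => by rw [tmap_smul, hhMap_smul]; rfl }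
  have hE : ∀ φ, Sheaf.H.equiv₀ _ hT (E φ) = (CohFinite.tmap φ L').app ⊤ (LinRes.gen₀ θ) := fun φ =>
    (h0_natural A _ g).trans (congrArg _ hg)
  refine ⟨LinearEquiv.ofBijective E ⟨(injective_iff_map_eq_zero E).2 fun φ hφ => ?_, fun y => ?_⟩⟩
  · refine LinRes.eq_zero_of_tmap hL' φ (LinRes.eq_zero_of_gen (TMul.commIso L L' ≪≫ θ) _ ?_)
    show (CohFinite.tmap φ L').app ⊤ (LinRes.gen₀ θ) = 0
    rw [← hE, hφ, map_zero]
  · refine ⟨LinRes.secHom θ (Sheaf.H.equiv₀ _ hT y), (Sheaf.H.equiv₀ _ hT).injective ?_⟩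
    rw [hE]
    exact LinRes.tmap_secHom_gen θ hL' _

/-- `G ⊗ -` on isomorphisms. -/
def whiskIso (G : X.Modules) {P Q : X.Modules} (i : P ≅ Q) : CohB1.tensorMod G P ≅ CohB1.tensorMod G Q where
  hom := Mumford.whisk G i.hom
  inv := Mumford.whisk G i.inv
  hom_inv_id := TMul.hom_ext fun U g a => by
    show (Mumford.whisk G i.inv).app U ((Mumford.whisk G i.hom).app U (TMul.tm g a)) = TMul.tm g a
    rw [Mumford.whisk_tm, Mumford.whisk_tm]
    exact congrArg (TMul.tm g) (congrArg (RegKos.ev a) i.hom_inv_id)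
  inv_hom_id := TMul.hom_ext fun U g a => by
    show (Mumford.whisk G i.hom).app U ((Mumford.whisk G i.inv).app U (TMul.tm g a)) = TMul.tm g a
    rw [Mumford.whisk_tm, Mumford.whisk_tm]
    exact congrArg (TMul.tm g) (congrArg (RegKos.ev a) i.inv_hom_id)

lemma whiskIso_tm {M P Q : X.Modules} (e : P ≅ Q) {U : X.Opens} (m : Γ(M, U)) (p : Γ(P, U)) :
    (whiskIso M e).hom.app U (TMul.tm m p) = TMul.tm m (e.hom.app U p) :=
  Mumford.whisk_tm ..

/-- Undoing a twist. -/
def untw {L L' : X.Modules} (θ : CohB1.tensorMod L L' ≅ Coh.structureModule X) (M : X.Modules) :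
    CohB1.tensorMod (CohB1.tensorMod M L) L' ≅ M :=
  TMul.assocIso M L L' ≪≫ whiskIso M θ ≪≫ SecTwist.unitorR M

lemma tmap_assoc {M N : X.Modules} (φ : M ⟶ N) (L L' : X.Modules) :
    CohFinite.tmap (CohFinite.tmap φ L) L' ≫ TMul.assocHom N L L' =
      TMul.assocHom M L L' ≫ CohFinite.tmap φ (CohB1.tensorMod L L') := by
  refine TMul.hom_ext₃ fun U m l l' => ?_
  show (TMul.assocHom N L L').app U ((CohFinite.tmap (CohFinite.tmap φ L) L').app U (TMul.tm (TMul.tm m l) l')) =
    (CohFinite.tmap φ _).app U ((TMul.assocHom M L L').app U (TMul.tm (TMul.tm m l) l'))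
  rw [CohFinite.tmap_tm, CohFinite.tmap_tm, TMul.assocHom_tm, TMul.assocHom_tm, CohFinite.tmap_tm]

lemma untw_natural {L L' : X.Modules} (θ : CohB1.tensorMod L L' ≅ Coh.structureModule X) {M N : X.Modules}
    (φ : M ⟶ N) :
    CohFinite.tmap (CohFinite.tmap φ L) L' ≫ (untw θ N).hom = (untw θ M).hom ≫ φ := by
  refine TMul.hom_ext₃ fun U m l l' => ?_
  show (SecTwist.unitorR N).hom.app U ((whiskIso N θ).hom.app U ((TMul.assocHom N L L').app U
      ((CohFinite.tmap (CohFinite.tmap φ L) L').app U (TMul.tm (TMul.tm m l) l')))) =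
    φ.app U ((SecTwist.unitorR M).hom.app U ((whiskIso M θ).hom.app U
      ((TMul.assocHom M L L').app U (TMul.tm (TMul.tm m l) l'))))
  rw [CohFinite.tmap_tm, CohFinite.tmap_tm, TMul.assocHom_tm, TMul.assocHom_tm, whiskIso_tm, whiskIso_tm,
    ResDesc.unitorR_tm, ResDesc.unitorR_tm]
  exact (TMul.app_smul φ _ m).symm

end General

end Groth.Agent.SerrePn
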