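import Groth.Agent.SerrePn.Basic
import Groth.Agent.W7Hull.HomAdj
import Mathlib.CategoryTheory.Adjunction.Unique

/-!
Tensoring with an invertible module is an equivalence; twists pass through the sheaf Hom.
-/

set_option autoImplicit false
set_option linter.style.haveILetI false
set_option backward.isDefEq.respectTransparency false
set_option backward.isDefEq.respectTransparency.types false

universe u

open CategoryTheory CategoryTheory.Limits AlgebraicGeometry TopologicalSpace Opposite

noncomputable section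

namespace Groth.Agent.SerrePn

variable {X : Scheme.{u}}

/-- `- ⊗ L`. -/
def tens (L : X.Modules) : X.Modules ⥤ X.Modules where
  obj M := CohB1.tensorMod M L
  map φ := CohFinite.tmap φ L
  map_id M := CohFinite.tmap_id M L
  map_comp φ ψ := CohFinite.tmap_comp φ ψ L

variable {L L' : X.Modules}

/-- `- ⊗ L ⊗ L' ≅ 𝟭`. -/
def untwIso (θ : CohB1.tensorMod L L' ≅ Coh.structureModule X) : tens L ⋙ tens L' ≅ 𝟭 X.Modules :=
  NatIso.ofComponents (fun M => untw θ M) fun φ => untw_natural θ φ

/-- Tensoring with an invertible module, as an equivalence. -/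
def tensEquiv (θ : CohB1.tensorMod L L' ≅ Coh.structureModule X)
    (θ' : CohB1.tensorMod L' L ≅ Coh.structureModule X) : X.Modules ≌ X.Modules :=
  CategoryTheory.Equivalence.mk (tens L) (tens L') (untwIso θ).symm (untwIso θ')

/-- `(E ⊗ M) ⊗ L ≅ E ⊗ (M ⊗ L)`, naturally in `M`. -/
def assocNat (E L : X.Modules) :
    (DCoh.tensorBi (X := X)).obj E ⋙ tens L ≅ tens L ⋙ (DCoh.tensorBi (X := X)).obj E :=
  NatIso.ofComponents (fun M => TMul.assocIso E M L) fun {M N} φ => by
    refine TMul.hom_ext₃ fun U e m l => ?_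
    show (TMul.assocHom E N L).app U ((CohFinite.tmap (((DCoh.tensorBi (X := X)).obj E).map φ) L).app U
        (TMul.tm (TMul.tm e m) l)) =
      (((DCoh.tensorBi (X := X)).obj E).map (CohFinite.tmap φ L)).app U ((TMul.assocHom E M L).app U
        (TMul.tm (TMul.tm e m) l))
    refine (congrArg _ ((CohFinite.tmap_tm _ L _ _).trans (congrArg (TMul.tm · l) (W7Hull.map_tm E φ e m)))).trans ?_
    refine (TMul.assocHom_tm e (φ.app U m) l).trans ?_
    refine Eq.trans ?_ (congrArg _ (TMul.assocHom_tm e m l)).symm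
    refine Eq.trans ?_ (W7Hull.map_tm E (CohFinite.tmap φ L) e (TMul.tm m l)).symm
    rw [CohFinite.tmap_tm]

variable (θ : CohB1.tensorMod L L' ≅ Coh.structureModule X) (θ' : CohB1.tensorMod L' L ≅ Coh.structureModule X)

include θ θ' in
/-- Twists come out of the second argument of the sheaf Hom. -/
theorem nonempty_homTwist (E G : X.Modules) :
    Nonempty (RefHull.homSh E (CohB1.tensorMod G L) ≅ CohB1.tensorMod (RefHull.homSh E G) L) := by
  let e := (tensEquiv θ θ').symm.toAdjunction
  let adj₁ := (W7Hull.homShAdj E).comp e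
  let adj₂ := e.comp (W7Hull.homShAdj E)
  exact ⟨(adj₁.rightAdjointUniq (adj₂.ofNatIsoLeft (assocNat E L').symm)).app G⟩

/-- `(E ⊗ L) ⊗ M ≅ E ⊗ (M ⊗ L)`, naturally in `M`. -/
def swapNat (E L : X.Modules) :
    (DCoh.tensorBi (X := X)).obj (CohB1.tensorMod E L) ≅ tens L ⋙ (DCoh.tensorBi (X := X)).obj E :=
  NatIso.ofComponents
    (fun M => TMul.assocIso E L M ≪≫ whiskIso E (TMul.commIso L M)) fun {M N} φ => by
    refine TMul.hom_ext₃ fun U e l m => ?_
    show (whiskIso E (TMul.commIso L N)).hom.app U ((TMul.assocHom E L N).app U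
        ((((DCoh.tensorBi (X := X)).obj (CohB1.tensorMod E L)).map φ).app U (TMul.tm (TMul.tm e l) m))) =
      (((DCoh.tensorBi (X := X)).obj E).map (CohFinite.tmap φ L)).app U ((whiskIso E (TMul.commIso L M)).hom.app U
        ((TMul.assocHom E L M).app U (TMul.tm (TMul.tm e l) m)))
    refine (congrArg (fun z => (whiskIso E (TMul.commIso L N)).hom.app U ((TMul.assocHom E L N).app U z))
      (W7Hull.map_tm (CohB1.tensorMod E L) φ (TMul.tm e l) m)).trans ?_
    refine Eq.trans ?_ (congrArg (fun z => (((DCoh.tensorBi (X := X)).obj E).map (CohFinite.tmap φ L)).app U z)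
      ((congrArg _ (TMul.assocHom_tm e l m)).trans (whiskIso_tm (TMul.commIso L M) e (TMul.tm l m)))).symm
    refine ((congrArg _ (TMul.assocHom_tm e l (φ.app U m))).trans
      (whiskIso_tm (TMul.commIso L N) e (TMul.tm l (φ.app U m)))).trans ?_
    refine Eq.trans ?_ (W7Hull.map_tm E (CohFinite.tmap φ L) e _).symm
    refine congrArg (TMul.tm e) ?_
    show (TMul.commHom L N).app U (TMul.tm l (φ.app U m)) =
      (CohFinite.tmap φ L).app U ((TMul.commHom L M).app U (TMul.tm l m))
    rw [TMul.commHom_tm, TMul.commHom_tm, CohFinite.tmap_tm]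

include θ θ' in
/-- Twists of the first argument become twists of the second. -/
theorem nonempty_homSwap (E G : X.Modules) :
    Nonempty (RefHull.homSh (CohB1.tensorMod E L') G ≅ RefHull.homSh E (CohB1.tensorMod G L)) := by
  let e := (tensEquiv θ θ').symm.toAdjunction
  let adj₁ := e.comp (W7Hull.homShAdj E)
  let adj₂ := W7Hull.homShAdj (CohB1.tensorMod E L')
  obtain ⟨i⟩ : Nonempty (RefHull.homSh (CohB1.tensorMod E L') G ≅ CohB1.tensorMod (RefHull.homSh E G) L) :=
    ⟨(adj₂.rightAdjointUniq (adj₁.ofNatIsoLeft (swapNat E L').symm)).app G⟩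
  obtain ⟨j⟩ := nonempty_homTwist θ θ' E G
  exact ⟨i ≪≫ j.symm⟩

end Groth.Agent.SerrePn
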