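import Groth.Agent.SerrePn.Basic
import Mathlib.Algebra.Homology.DerivedCategory.Ext.Linear
import Mathlib.Algebra.Homology.DerivedCategory.Ext.ExactSequences
import Mathlib.LinearAlgebra.Dual.Lemmas

/-!
From duality in the top degree to duality for all Ext groups, by dimension shifting.
-/

set_option autoImplicit false
set_option linter.style.haveILetI false
set_option linter.unusedSectionVars false
set_option backward.isDefEq.respectTransparency false

universe u

open CategoryTheory CategoryTheory.Limits AlgebraicGeometry Abelian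

noncomputable section

namespace Groth.Agent.SerrePn

variable (k : Type u) [Field k] {X : Scheme.{u}} [X.Over (Spec (CommRingCat.of k))] [HasExt.{u} X.Modules]

/-- Precomposition. -/
def pre {P Q : X.Modules} (f : P ⟶ Q) (W : X.Modules) : (Q ⟶ W) →ₗ[k] (P ⟶ W) where
  toFun φ := f ≫ φ
  map_add' _ _ := Preadditive.comp_add _ _ _ _ _ _
  map_smul' a φ := Linear.comp_smul _ _ _ f a φ

/-- The connecting map to `Ext¹`. -/
def conn {S : ShortComplex X.Modules} (hS : S.ShortExact) (W : X.Modules) :
    (S.X₁ ⟶ W) →ₗ[k] Ext S.X₃ W 1 :=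
  (hS.extClass.precompOfLinear k W rfl).comp (Ext.linearEquiv₀ (R := k)).symm.toLinearMap

lemma conn_apply {S : ShortComplex X.Modules} (hS : S.ShortExact) (W : X.Modules) (φ : S.X₁ ⟶ W) :
    conn k hS W φ = hS.extClass.comp (Ext.mk₀ φ) rfl := rfl

lemma conn_surjective {S : ShortComplex X.Modules} (hS : S.ShortExact) (W : X.Modules)
    (h : Subsingleton (Ext S.X₂ W 1)) : Function.Surjective (conn k hS W) := fun y => by
  obtain ⟨x, hx⟩ := Ext.contravariant_sequence_exact₃ (n₀ := 0) hS W y (h.elim _ _) rfl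
  obtain ⟨φ, rfl⟩ := (Ext.mk₀_bijective _ _).2 x
  exact ⟨φ, hx⟩

lemma ker_conn {S : ShortComplex X.Modules} (hS : S.ShortExact) (W : X.Modules) :
    LinearMap.ker (conn k hS W) = LinearMap.range (pre k S.f W) := by
  ext φ
  rw [LinearMap.mem_ker, conn_apply, LinearMap.mem_range]
  constructor
  · intro h
    obtain ⟨y, hy⟩ := Ext.contravariant_sequence_exact₁ hS W (Ext.mk₀ φ) rfl h
    obtain ⟨ψ, rfl⟩ := (Ext.mk₀_bijective _ _).2 y
    rw [Ext.mk₀_comp_mk₀] at hy
    exact ⟨ψ, (Ext.mk₀_bijective _ _).1 hy⟩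
  · rintro ⟨ψ, rfl⟩
    show hS.extClass.comp (Ext.mk₀ (S.f ≫ ψ)) rfl = 0
    rw [← Ext.mk₀_comp_mk₀, hS.extClass_comp_assoc]

lemma shift_bijective {S : ShortComplex X.Modules} (hS : S.ShortExact) (W : X.Modules) (i j : ℕ) (hij : 1 + i = j)
    (h₁ : Subsingleton (Ext S.X₂ W i)) (h₂ : Subsingleton (Ext S.X₂ W j)) :
    Function.Bijective (hS.extClass.precompOfLinear k W hij) := by
  refine ⟨(injective_iff_map_eq_zero _).2 fun x hx => ?_, fun y => ?_⟩
  · obtain ⟨z, rfl⟩ := Ext.contravariant_sequence_exact₁ hS W x hij hx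
    rw [h₁.elim z 0, Ext.comp_zero]
  · exact Ext.contravariant_sequence_exact₃ hS W y (h₂.elim _ _) hij

lemma hhδ_injective {S : ShortComplex X.Modules} (hS : S.ShortExact) (q : ℕ)
    (h : Subsingleton (Coh.HH X S.X₂ q)) : Function.Injective (CohFinite.hhδ k hS q) := by
  refine (injective_iff_map_eq_zero _).2 fun x hx => ?_
  obtain ⟨y, rfl⟩ := (CohFinite.δH_eq_zero_iff (CohFinite.shortExact_toAb hS) q x).1 hx
  rw [show y = 0 from h.elim _ _]
  exact map_zero _

lemma ker_hhMap_f {S : ShortComplex X.Modules} (hS : S.ShortExact) (q : ℕ) :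
    LinearMap.ker (CohFinite.hhMap k S.f (q + 1)) = LinearMap.range (CohFinite.hhδ k hS q) := by
  ext x
  exact CohFinite.map_f_eq_zero_iff (CohFinite.shortExact_toAb hS) q x

lemma hhMap_f_zero_injective {S : ShortComplex X.Modules} (hS : S.ShortExact) :
    Function.Injective (CohFinite.hhMap k S.f 0) :=
  CohFinite.map_f_injective (CohFinite.shortExact_toAb hS)

lemma subsingleton_h0_sub {S : ShortComplex X.Modules} (hS : S.ShortExact)
    (h : Subsingleton (Coh.HH X S.X₂ 0)) : Subsingleton (Coh.HH X S.X₁ 0) :=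
  (haveI : Subsingleton ((S.map (CohQC.toAbF X)).X₂.H 0) := h; (CohFinite.map_f_injective (CohFinite.shortExact_toAb hS)).subsingleton)

/-- Duality in all degrees from duality in the top degree and enough acyclic covers. -/
theorem ext_duality (W : X.Modules) (n : ℕ) (C : X.Modules → Prop)
    (e : ∀ F, C F → ((F ⟶ W) ≃ₗ[k] Module.Dual k (Coh.HH X F n)))
    (he : ∀ F G (hF : C F) (hG : C G) (p : F ⟶ G) (φ : G ⟶ W) (x : Coh.HH X F n),
      e F hF (p ≫ φ) x = e G hG φ (CohFinite.hhMap k p n x))
    (hres : ∀ F, C F → ∃ S : ShortComplex X.Modules, S.ShortExact ∧ S.X₃ = F ∧ C S.X₁ ∧ C S.X₂ ∧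
      (∀ j, j < n → Subsingleton (Coh.HH X S.X₂ j)) ∧ ∀ i, Subsingleton (Ext S.X₂ W (i + 1)))
    (m : ℕ) : ∀ F, C F → (m ≤ n → Nonempty (Ext F W m ≃ₗ[k] Module.Dual k (Coh.HH X F (n - m)))) ∧
      (n < m → Subsingleton (Ext F W m)) := by
  induction m with
  | zero =>
    exact fun F hF => ⟨fun _ => ⟨(Ext.linearEquiv₀ (R := k)).trans (e F hF)⟩, fun h => absurd h (Nat.not_lt_zero n)⟩
  | succ m ih =>
    intro F hF
    obtain ⟨S, hS, rfl, h₁, h₂, hH, hE⟩ := hres F hF
    rcases m with _ | m
    · -- degree one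
      rcases n with _ | q
      · refine ⟨fun h => absurd h (by omega), fun _ => ?_⟩
        refine subsingleton_of_forall_eq 0 fun y => ?_
        obtain ⟨φ, rfl⟩ := conn_surjective k hS W (hE 0) y
        rw [← LinearMap.mem_ker, ker_conn]
        obtain ⟨ξ, hξ⟩ := LinearMap.dualMap_surjective_of_injective (hhMap_f_zero_injective k hS) (e _ h₁ φ)
        refine ⟨(e _ h₂).symm ξ, (e _ h₁).injective (LinearMap.ext fun x => ?_)⟩
        rw [← hξ]
        show e _ h₁ (S.f ≫ (e _ h₂).symm ξ) x = ξ (CohFinite.hhMap k S.f 0 x)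
        rw [he _ _ h₁ h₂, LinearEquiv.apply_symm_apply]
      · refine ⟨fun _ => ?_, fun h => absurd h (by omega)⟩
        show Nonempty (Ext S.X₃ W 1 ≃ₗ[k] Module.Dual k (Coh.HH X S.X₃ q))
        let Φ : (S.X₁ ⟶ W) →ₗ[k] Module.Dual k (Coh.HH X S.X₃ q) :=
          (CohFinite.hhδ k hS q).dualMap.comp (e _ h₁).toLinearMap
        have hΦ : Function.Surjective Φ :=
          (LinearMap.dualMap_surjective_of_injective (hhδ_injective k hS q (hH q (Nat.lt_succ_self q)))).comp
            (e _ h₁).surjective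
        have hker : LinearMap.ker Φ = LinearMap.range (pre k S.f W) := by
          ext φ
          rw [LinearMap.mem_range]
          constructor
          · intro hφ
            have h' : (e _ h₁ φ) ∈ LinearMap.range (CohFinite.hhMap k S.f (q + 1)).dualMap := by
              rw [LinearMap.range_dualMap_eq_dualAnnihilator_ker, Submodule.mem_dualAnnihilator]
              intro x hx
              rw [ker_hhMap_f k hS q] at hx
              obtain ⟨y, rfl⟩ := hx
              exact LinearMap.congr_fun hφ y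
            obtain ⟨ξ, hξ⟩ := h'
            refine ⟨(e _ h₂).symm ξ, (e _ h₁).injective (LinearMap.ext fun x => ?_)⟩
            rw [← hξ]
            show e _ h₁ (S.f ≫ (e _ h₂).symm ξ) x = ξ (CohFinite.hhMap k S.f (q + 1) x)
            rw [he _ _ h₁ h₂, LinearEquiv.apply_symm_apply]
          · rintro ⟨ψ, rfl⟩
            refine LinearMap.ext fun y => ?_
            show e _ h₁ (S.f ≫ ψ) (CohFinite.hhδ k hS q y) = 0
            rw [he _ _ h₁ h₂]
            have h0 : CohFinite.hhMap k S.f (q + 1) (CohFinite.hhδ k hS q y) = 0 :=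
              (CohFinite.map_f_eq_zero_iff (CohFinite.shortExact_toAb hS) q _).2 ⟨y, rfl⟩
            rw [h0, map_zero]
        exact ⟨(((conn k hS W).quotKerEquivOfSurjective (conn_surjective k hS W (hE 0))).symm.trans
          (Submodule.quotEquivOfEq _ _ ((ker_conn k hS W).trans hker.symm))).trans
          (Φ.quotKerEquivOfSurjective hΦ)⟩
    · -- higher degrees
      let E := LinearEquiv.ofBijective _ (shift_bijective k hS W (m + 1) (m + 1 + 1) (by omega) (hE m) (hE (m + 1)))
      obtain ⟨ihl, ihg⟩ := ih _ h₁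
      refine ⟨fun hm => ?_, fun hm => ?_⟩
      · obtain ⟨e₁⟩ := ihl (by omega)
        have hq : n - (m + 1) = (n - (m + 1 + 1)) + 1 := by omega
        rw [hq] at e₁
        let δ := LinearEquiv.ofBijective (CohFinite.hhδ k hS (n - (m + 1 + 1)))
          ⟨hhδ_injective k hS _ (hH _ (by omega)), fun x =>
            (CohFinite.map_f_eq_zero_iff (CohFinite.shortExact_toAb hS) _ x).1
              (@Subsingleton.elim _ (hH _ (by omega)) _ _)⟩
        exact ⟨E.symm.trans (e₁.trans δ.dualMap)⟩
      · have : Subsingleton (Ext S.X₁ W (m + 1)) := by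
          rcases Nat.lt_or_ge n (m + 1) with hn | hn
          · exact ihg hn
          · obtain ⟨e₁⟩ := ihl hn
            haveI := subsingleton_h0_sub hS (hH 0 (by omega))
            rw [show n - (m + 1) = 0 by omega] at e₁
            exact e₁.toEquiv.subsingleton
        exact E.symm.toEquiv.subsingleton

end Groth.Agent.SerrePn
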