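import Groth.Agent.SerrePn.Perfect
import Groth.Agent.SerrePn.ExtDual
import Groth.Agent.HDU.ModData
import Groth.Agent.GrothSS.SupportSS

/-!
Ext groups out of twists, and Serre duality for coherent modules on projective space.
-/

set_option autoImplicit false
set_option linter.style.haveILetI false
set_option linter.unusedSectionVars false
set_option backward.isDefEq.respectTransparency false
set_option backward.isDefEq.respectTransparency.types false

universe u

open CategoryTheory CategoryTheory.Limits AlgebraicGeometry TopologicalSpace Opposite Abelian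

noncomputable section

namespace Groth.Agent.SerrePn

section General

variable {X : Scheme.{u}}

lemma enoughInjectives : EnoughInjectives X.Modules :=
  haveI : IsGrothendieckAbelian.{u} X.Modules := ModSiteGro.isGrothendieckAbelian (R := X.ringCatSheaf)
  inferInstance

lemma hh_injective (I : X.Modules) [Injective I] (q : ℕ) : Subsingleton (Coh.HH X I (q + 1)) := by
  haveI : Injective (show ModSite.Mod X.sheaf from I) := ‹_›
  exact (Groth.Agent.SiteCoh.huTerminalEquiv (Opens.grothendieckTopology X) (T := (⊤ : Opens X))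
    Limits.isTerminalTop (Coh.toAb I) (q + 1)).toEquiv.subsingleton_congr.2
    (Groth.Agent.HDU.subsingleton_hu_injective X.sheaf I q (⊤ : Opens X))

variable {L L' : X.Modules}

/-- `φ ⊗ L` on isomorphisms. -/
def tmapIso {M N : X.Modules} (e : M ≅ N) (L : X.Modules) : CohB1.tensorMod M L ≅ CohB1.tensorMod N L where
  hom := CohFinite.tmap e.hom L
  inv := CohFinite.tmap e.inv L
  hom_inv_id := by rw [← CohFinite.tmap_comp, e.hom_inv_id, CohFinite.tmap_id]
  inv_hom_id := by rw [← CohFinite.tmap_comp, e.inv_hom_id, CohFinite.tmap_id]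

lemma injective_tensor (hL : PicF.IsInvertible L) (θ : CohB1.tensorMod L L' ≅ Coh.structureModule X)
    (θ' : CohB1.tensorMod L' L ≅ Coh.structureModule X) (I : X.Modules) [Injective I] :
    Injective (CohB1.tensorMod I L') := by
  refine ⟨fun {A B} g f hf => ?_⟩
  let α : CohB1.tensorMod I L' ≅ CohB1.tensorMod I L' :=
    (untw θ (CohB1.tensorMod I L')).symm ≪≫ tmapIso (untw θ' I) L'
  haveI : Mono (CohFinite.tmap f L) := (Groth.Agent.QC.mono_iff_app_injective _).2
    (CohFinite.tmap_eq_zero_locally hL f fun U => Groth.Agent.QC.app_injective_of_mono f U)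
  obtain ⟨h, hh⟩ := Injective.factors (CohFinite.tmap (g ≫ α.inv) L ≫ (untw θ' I).hom) (CohFinite.tmap f L)
  refine ⟨(untw θ B).inv ≫ CohFinite.tmap h L', ?_⟩
  have e : CohFinite.tmap (CohFinite.tmap f L) L' ≫ CohFinite.tmap h L' =
      (untw θ A).hom ≫ (g ≫ α.inv) ≫ α.hom := by
    rw [← CohFinite.tmap_comp, hh, CohFinite.tmap_comp]
    show _ = (untw θ A).hom ≫ (g ≫ α.inv) ≫ (untw θ (CohB1.tensorMod I L')).inv ≫ (tmapIso (untw θ' I) L').hom
    generalize g ≫ α.inv = g₀
    rw [← reassoc_of% (untw_natural θ g₀), Iso.hom_inv_id_assoc]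
    rfl
  rw [Category.assoc, Iso.inv_hom_id, Category.comp_id] at e
  rw [← cancel_epi (untw θ A).hom, ← reassoc_of% (untw_natural θ f), Iso.hom_inv_id_assoc]
  exact e

lemma hom_surjective (A : Type u) [CommRing A] [X.Over (Spec (CommRingCat.of A))] (hL' : PicF.IsInvertible L')
    (θ : CohB1.tensorMod L' L ≅ Coh.structureModule X) {I Q : X.Modules} (π : I ⟶ Q)
    (h : Function.Surjective (CohFinite.hhMap A (CohFinite.tmap π L') 0)) (φ : L ⟶ Q) :
    ∃ ψ : L ⟶ I, ψ ≫ π = φ := by
  let hT : IsTerminal (⊤ : X.Opens) := isTerminalTop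
  obtain ⟨x, hx⟩ := h ((Sheaf.H.equiv₀ _ hT).symm ((CohFinite.tmap φ L').app ⊤ (LinRes.gen₀ θ)))
  refine ⟨LinRes.secHom θ (Sheaf.H.equiv₀ _ hT x), sub_eq_zero.1
    (LinRes.eq_zero_of_tmap hL' _ (LinRes.eq_zero_of_gen (TMul.commIso L L' ≪≫ θ) _ ?_))⟩
  show (CohFinite.tmap (LinRes.secHom θ _ ≫ π - φ) L').app ⊤ (LinRes.gen₀ θ) = 0
  have h1 := h0_natural A (CohFinite.tmap π L') x
  rw [hx, AddEquiv.apply_symm_apply] at h1
  have h2 : ∀ u v : L ⟶ Q, CohFinite.tmap (u - v) L' = CohFinite.tmap u L' - CohFinite.tmap v L' := fun u v =>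
    map_sub (AddMonoidHom.mk' (fun φ => CohFinite.tmap φ L') fun a b => CohFinite.tmap_add a b L') u v
  rw [h2, Scheme.Modules.Hom.sub_app]
  show (CohFinite.tmap (LinRes.secHom θ _ ≫ π) L').app ⊤ _ - (CohFinite.tmap φ L').app ⊤ _ = 0
  rw [sub_eq_zero, h1, CohFinite.tmap_comp]
  exact congrArg ((CohFinite.tmap π L').app ⊤) (LinRes.tmap_secHom_gen θ hL' _)

theorem subsingleton_ext_of_hh (A : Type u) [CommRing A] [X.Over (Spec (CommRingCat.of A))]
    [HasExt.{u} X.Modules] (hL : PicF.IsInvertible L) (hL' : PicF.IsInvertible L')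
    (θ : CohB1.tensorMod L L' ≅ Coh.structureModule X) (θ' : CohB1.tensorMod L' L ≅ Coh.structureModule X)
    (i : ℕ) : ∀ G : X.Modules, Subsingleton (Coh.HH X (CohB1.tensorMod G L') (i + 1)) →
      Subsingleton (Ext L G (i + 1)) := by
  haveI := enoughInjectives (X := X)
  induction i with
  | zero =>
    intro G hG
    let S : ShortComplex X.Modules := ShortComplex.mk (Injective.ι G) (cokernel.π _) (cokernel.condition _)
    have hS : S.ShortExact := { exact := ShortComplex.exact_cokernel _ }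
    refine subsingleton_of_forall_eq 0 fun x => ?_
    haveI : Injective S.X₂ := inferInstanceAs (Injective (Injective.under G))
    obtain ⟨y, rfl⟩ := Ext.covariant_sequence_exact₁ L hS x (Ext.eq_zero_of_injective _) (zero_add 1)
    obtain ⟨φ, rfl⟩ := (Ext.mk₀_bijective _ _).2 y
    have hs : Function.Surjective (CohFinite.hhMap A (CohFinite.tmap S.g L') 0) := fun z =>
      (CohFinite.δH_eq_zero_iff (CohFinite.shortExact_toAb (CohFinite.shortExact_tmap hL' hS)) 0 z).1 (hG.elim _ _)
    obtain ⟨ψ, rfl⟩ := hom_surjective A hL' θ' S.g hs φ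
    rw [← Ext.mk₀_comp_mk₀, Ext.comp_assoc (Ext.mk₀ ψ) (Ext.mk₀ S.g) hS.extClass (add_zero 0) (zero_add 1) (by omega),
      hS.comp_extClass, Ext.comp_zero]
  | succ i ih =>
    intro G hG
    let S : ShortComplex X.Modules := ShortComplex.mk (Injective.ι G) (cokernel.π _) (cokernel.condition _)
    have hS : S.ShortExact := { exact := ShortComplex.exact_cokernel _ }
    haveI : Injective S.X₂ := inferInstanceAs (Injective (Injective.under G))
    haveI : Injective (CohB1.tensorMod S.X₂ L') := injective_tensor hL θ θ' S.X₂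
    have hQ : Subsingleton (Ext L S.X₃ (i + 1)) := ih _
      (CohFinite.subsingleton_of_shortExact (CohFinite.shortExact_tmap hL' hS) (i + 1) (hh_injective _ i) hG)
    refine subsingleton_of_forall_eq 0 fun x => ?_
    obtain ⟨y, rfl⟩ := Ext.covariant_sequence_exact₁ L hS x (Ext.eq_zero_of_injective _) (rfl : i + 1 + 1 = _)
    rw [hQ.elim y 0, Ext.zero_comp]

lemma subsingleton_ext_coprod [HasExt.{u} X.Modules] {r : ℕ} (T : Fin r → X.Modules) (W : X.Modules) (i : ℕ)
    (h : ∀ j, Subsingleton (Ext (T j) W i)) : Subsingleton (Ext (∐ T) W i) := by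
  obtain ⟨π, -, -, h3⟩ := P1Split.exists_proj T
  refine subsingleton_of_forall_eq 0 fun x => ?_
  let f : ((∐ T) ⟶ ∐ T) →+ Ext (∐ T) W i :=
    AddMonoidHom.mk' (fun g => (Ext.mk₀ g).comp x (zero_add i)) fun a b => by
      show (Ext.mk₀ (a + b)).comp x _ = _
      rw [Ext.mk₀_add, Ext.add_comp]
  calc x = f (𝟙 _) := (Ext.mk₀_id_comp x).symm
    _ = f (∑ j, π j ≫ Sigma.ι T j) := congrArg f h3.symm
    _ = ∑ j, f (π j ≫ Sigma.ι T j) := map_sum f _ _
    _ = 0 := Finset.sum_eq_zero fun j _ => by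
      show (Ext.mk₀ (π j ≫ Sigma.ι T j)).comp x (zero_add i) = 0
      rw [← Ext.mk₀_comp_mk₀_assoc, (h j).elim ((Ext.mk₀ (Sigma.ι T j)).comp x (zero_add i)) 0, Ext.comp_zero]

end General

section Pn

variable (k : Type u) [Field k] (n : ℕ) [HasExt.{u} (CohB1.ProjSpace n k).Modules]

lemma subsingleton_ext_twist (N : ℕ) (hN : 1 ≤ N) (i : ℕ) :
    Subsingleton (Ext (Om k n (-(N : ℤ))) (om k n) (i + 1)) := by
  obtain ⟨θ⟩ := exists_theta k n (-(N : ℤ)) N (by ring)
  obtain ⟨θ'⟩ := exists_theta k n N (-(N : ℤ)) (by ring)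
  refine subsingleton_ext_of_hh k (CohFinite.isInvertible_twist n k _) (CohFinite.isInvertible_twist n k _) θ θ' i _ ?_
  obtain ⟨e⟩ := RegCx.twist_twist (k := k) (n := n) (-((n : ℤ) + 1)) N (-((n : ℤ) + 1) + N) rfl
  exact CohQC.hh_subsingleton_of_iso e.symm _ (ProjCech.twist_vanish (R := k) n _ _ (by omega) (by omega))

lemma exists_resolution (F : (CohB1.ProjSpace n k).Modules) (hF : Coh.IsCoh F) :
    ∃ S : ShortComplex (CohB1.ProjSpace n k).Modules, S.ShortExact ∧ S.X₃ = F ∧ Coh.IsCoh S.X₁ ∧ Coh.IsCoh S.X₂ ∧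
      (∀ j, j < n → Subsingleton (Coh.HH (CohB1.ProjSpace n k) S.X₂ j)) ∧
        ∀ i, Subsingleton (Ext S.X₂ (om k n) (i + 1)) := by
  obtain ⟨N, r, p, hN, hp⟩ := exists_presentation F hF 1
  have hP := isCoh_sum (k := k) (n := n) (fun _ : Fin r => -(N : ℤ))
  refine ⟨ShortComplex.mk (kernel.ι p) p (kernel.condition p),
    { exact := ShortComplex.exact_of_f_is_kernel _ (kernelIsKernel p) }, rfl, isCoh_kernel' hP hF p, hP,
    fun j hj => ?_, fun i => subsingleton_ext_coprod _ _ _ fun _ => subsingleton_ext_twist k n N hN i⟩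
  obtain ⟨π, -, -, h3⟩ := P1Split.exists_proj fun _ : Fin r => Om k n (-(N : ℤ))
  exact CohFinite.subsingleton_of_split _ (fun _ : Fin r => Om k n (-(N : ℤ))) (fun t => Sigma.ι (fun _ : Fin r => Om k n (-(N : ℤ))) t) π h3 j
    fun _ => ProjCech.twist_vanish (R := k) n _ j (by omega) (by omega)

/-- Serre duality on projective space for coherent modules. -/
theorem serre_duality (F : (CohB1.ProjSpace n k).Modules) (hF : Coh.IsCoh F) (m : ℕ) :
    (m ≤ n → Nonempty (Ext F (om k n) m ≃ₗ[k] Module.Dual k (Coh.HH (CohB1.ProjSpace n k) F (n - m)))) ∧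
      (n < m → Subsingleton (Ext F (om k n) m)) :=
  ext_duality k (om k n) n Coh.IsCoh pairEquiv (fun _ _ _ _ p φ x => pair_comp p φ x)
    (exists_resolution k n) m F hF

end Pn

end Groth.Agent.SerrePn

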