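import Groth.Agent.SerrePn.ClosedDepth
import Groth.Agent.SerrePn.Twists
import Groth.Agent.KFlat.PullTensor
import Groth.Agent.DerPerf.Local

/-!
Duality in all degrees on a closed subscheme of projective space whose twists have no low cohomology.
-/

set_option autoImplicit false
set_option linter.style.haveILetI false
set_option backward.isDefEq.respectTransparency false
set_option backward.isDefEq.respectTransparency.types false

universe u

open CategoryTheory CategoryTheory.Limits AlgebraicGeometry TopologicalSpace Opposite Abelian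

noncomputable section

namespace Groth.Agent.SerrePn

attribute [local instance] Abelian.hasFiniteBiproducts

variable {k : Type u} [Field k] {N : ℕ} {X : Scheme.{u}} (f : X ⟶ CohB1.ProjSpace N k) [IsClosedImmersion f]

/-- `i^*O(a)`. -/
abbrev Lx (a : ℤ) : X.Modules := (Scheme.Modules.pullback f).obj (Om k N a)

omit [IsClosedImmersion f] in
lemma isInvertible_Lx (a : ℤ) : PicF.IsInvertible (Lx f a) :=
  PicLoc.isInvertible_pullback f (CohFinite.isInvertible_twist N k a)

omit [IsClosedImmersion f] in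
lemma exists_thetaX (a b : ℤ) (h : a + b = 0) :
    Nonempty (CohB1.tensorMod (Lx f a) (Lx f b) ≅ Coh.structureModule X) := by
  obtain ⟨θ⟩ := exists_theta k N a b h
  exact ⟨KFlat.pullTensorIso f _ _ ≪≫ (Scheme.Modules.pullback f).mapIso θ ≪≫ DerPerf.pullUnitIso f⟩

omit [IsClosedImmersion f] in
lemma isCoh_Lx (a : ℤ) : Coh.IsCoh (Lx f a) :=
  ⟨LocFree.isQCoh_of_isFinLocFree (ResDesc.isFinLocFree_of_isInvertible (isInvertible_Lx f a)),
    LocFree.isFT_of_isFinLocFree (ResDesc.isFinLocFree_of_isInvertible (isInvertible_Lx f a))⟩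

/-- Sums of very negative twists cover any coherent module. -/
lemma exists_presentationX (F : X.Modules) (hF : Coh.IsCoh F) (N₀ : ℕ) :
    ∃ (M r : ℕ) (p : (∐ fun _ : Fin r => Lx f (-(M : ℤ))) ⟶ F), N₀ ≤ M ∧ Epi p := by
  haveI := CohFinite.isNoetherian_projSpace N k
  obtain ⟨M, r, φ, hM, hφ⟩ := exists_presentation _ (isCoh_push f hF) N₀
  let adj := Scheme.Modules.pullbackPushforwardAdjunction f
  let T : Fin r → (CohB1.ProjSpace N k).Modules := fun _ => Om k N (-(M : ℤ))
  let ψ : ∀ t : Fin r, Lx f (-(M : ℤ)) ⟶ F := fun t => (adj.homEquiv _ _).symm (Sigma.ι T t ≫ φ)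
  let q : (∐ fun _ : Fin r => Lx f (-(M : ℤ))) ⟶ F := Sigma.desc ψ
  refine ⟨M, r, q, hM, Abelian.epi_of_cokernel_π_eq_zero q (eq_zero_of_push f (cokernel.π q) ?_)⟩
  rw [← cancel_epi φ, comp_zero]
  refine Sigma.hom_ext _ _ fun t => ?_
  rw [comp_zero, ← Category.assoc]
  refine (adj.homEquiv _ _).symm.injective ?_
  rw [adj.homEquiv_naturality_right_symm]
  have h : ψ t ≫ cokernel.π q = 0 := by
    rw [show ψ t = Sigma.ι _ t ≫ q from (Sigma.ι_desc ψ t).symm, Category.assoc, cokernel.condition, comp_zero]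
  refine h.trans ?_
  rw [Adjunction.homEquiv_counit, Functor.map_zero, zero_comp]

variable [X.Over (Spec (CommRingCat.of k))] (hf : f ≫ CohB1.ProjSpace.toSpec N k = X ↘ Spec (CommRingCat.of k))

include hf in
lemma hh_twist_iff (F : X.Modules) (hF : Coh.IsCoh F) (a : ℤ) (q : ℕ) :
    Subsingleton (Coh.HH X (CohB1.tensorMod F (Lx f a)) q) ↔
      Subsingleton (Coh.HH (CohB1.ProjSpace N k)
        (CohB1.tensorMod ((Scheme.Modules.pushforward f).obj F) (Om k N a)) q) := by
  haveI := hF.1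
  obtain ⟨e⟩ := nonempty_hh_pushTwist k f hf F (CohFinite.isInvertible_twist N k a) q
  exact e.toEquiv.subsingleton_congr

include hf in
/-- All `Ext` in positive degree out of very negative twists vanish. -/
lemma exists_ext_vanish [HasExt.{u} X.Modules] (G : X.Modules) (hG : Coh.IsCoh G) :
    ∃ M₀ : ℕ, ∀ M : ℕ, M₀ ≤ M → ∀ i, Subsingleton (Ext (Lx f (-(M : ℤ))) G (i + 1)) := by
  haveI := CohFinite.isNoetherian_projSpace N k
  obtain ⟨m₁, hm₁⟩ := HorrocksPn.exists_regular _ (isCoh_push f hG)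
  refine ⟨m₁.toNat, fun M hM i => ?_⟩
  obtain ⟨θ⟩ := exists_thetaX f (-(M : ℤ)) M (by ring)
  obtain ⟨θ'⟩ := exists_thetaX f M (-(M : ℤ)) (by ring)
  refine subsingleton_ext_of_hh k (isInvertible_Lx f _) (isInvertible_Lx f _) θ θ' i G
    ((hh_twist_iff f hf G hG _ _).2 ?_)
  exact vanish_of_regular _ (isCoh_push f hG) m₁ (hm₁ m₁ le_rfl) (i + 1) M (Nat.succ_pos i) (by omega)

variable {n : ℕ}

include hf in
/-- The twists of `O` have no low cohomology in very negative degrees. -/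
lemma exists_low_vanish
    (hO : ∀ i, i < n → Van ((Scheme.Modules.pushforward f).obj (Coh.structureModule X)) i) :
    ∃ M₀ : ℕ, ∀ M : ℕ, M₀ ≤ M → ∀ i, i < n → Subsingleton (Coh.HH X (Lx f (-(M : ℤ))) i) := by
  haveI := CohFinite.isNoetherian_projSpace N k
  haveI := isLocallyNoetherian_of_immersion f
  obtain ⟨m₀, hm₀⟩ := exists_uniform hO
  refine ⟨m₀.toNat, fun M hM i hi => ?_⟩
  exact CohQC.hh_subsingleton_of_iso (TMul.leftUnitIso (Lx f (-(M : ℤ)))) i
    ((hh_twist_iff f hf _ RefStalk.isCoh_structureModule _ i).2 (hm₀ M (by omega) i hi))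

include hf in
/-- Resolutions by very negative twists. -/
lemma exists_resolutionX [HasExt.{u} X.Modules] (ω : X.Modules) (hω : Coh.IsCoh ω)
    (hO : ∀ i, i < n → Van ((Scheme.Modules.pushforward f).obj (Coh.structureModule X)) i)
    (F : X.Modules) (hF : Coh.IsCoh F) :
    ∃ S : ShortComplex X.Modules, S.ShortExact ∧ S.X₃ = F ∧ Coh.IsCoh S.X₁ ∧ Coh.IsCoh S.X₂ ∧
      (∀ j, j < n → Subsingleton (Coh.HH X S.X₂ j)) ∧ ∀ i, Subsingleton (Ext S.X₂ ω (i + 1)) := by
  haveI := CohFinite.isNoetherian_projSpace N k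
  haveI := isLocallyNoetherian_of_immersion f
  obtain ⟨A, hA⟩ := exists_ext_vanish f hf ω hω
  obtain ⟨B, hB⟩ := exists_low_vanish f hf hO
  obtain ⟨M, r, p, hM, hp⟩ := exists_presentationX f F hF (max A B)
  let T : Fin r → X.Modules := fun _ => Lx f (-(M : ℤ))
  have hP : Coh.IsCoh (∐ T) :=
    Groth.Agent.QC.isCoh_of_epi (Devissage.isCoh_biproduct T fun _ => isCoh_Lx f _)
      (Groth.Agent.QC.isQCoh_of_iso (biproduct.isoCoproduct T) (Devissage.isCoh_biproduct T fun _ => isCoh_Lx f _).1)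
      (biproduct.isoCoproduct T).hom
  refine ⟨ShortComplex.mk (kernel.ι p) p (kernel.condition p),
    { exact := ShortComplex.exact_of_f_is_kernel _ (kernelIsKernel p) }, rfl,
    Groth.Agent.QC.isCoh_kernel hP hF.1 p, hP, fun j hj => ?_,
    fun i => subsingleton_ext_coprod T _ _ fun _ => hA M (le_trans (le_max_left _ _) hM) i⟩
  obtain ⟨π, -, -, h3⟩ := P1Split.exists_proj T
  exact CohFinite.subsingleton_of_split _ T (fun t => Sigma.ι T t) π h3 j
    fun _ => hB M (le_trans (le_max_right _ _) hM) j hj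

/-- The pairing of a trace. -/
def pairX (ω F : X.Modules) (t : Coh.HH X ω n →ₗ[k] k) : (F ⟶ ω) →ₗ[k] Module.Dual k (Coh.HH X F n) :=
  (LinearMap.llcomp k (Coh.HH X F n) (Coh.HH X ω n) k t).comp (hhHom k F ω n)

include hf in
/-- Duality in all degrees from duality in the top degree. -/
theorem duality [HasExt.{u} X.Modules] (ω : X.Modules) (hω : Coh.IsCoh ω) (t : Coh.HH X ω n →ₗ[k] k)
    (hdual : ∀ F : X.Modules, Coh.IsCoh F → ∀ ψ : Coh.HH X F n →ₗ[k] k, ∃! φ : F ⟶ ω, ∀ x : Coh.HH X F n,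
      ψ x = t (Sheaf.H.map ((SheafOfModules.toSheaf X.ringCatSheaf).map φ) n x))
    (hO : ∀ i, i < n → Van ((Scheme.Modules.pushforward f).obj (Coh.structureModule X)) i)
    (m : ℕ) (F : X.Modules) (hF : Coh.IsCoh F) :
    (m ≤ n → Nonempty (Ext F ω m ≃ₗ[k] Module.Dual k (Coh.HH X F (n - m)))) ∧
      (n < m → Subsingleton (Ext F ω m)) := by
  have hb : ∀ F : X.Modules, Coh.IsCoh F → Function.Bijective (pairX ω F t) := fun F hF => by
    refine ⟨fun φ₁ φ₂ h => ?_, fun ψ => ?_⟩
    · obtain ⟨φ₀, -, hu⟩ := hdual F hF (pairX ω F t φ₁)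
      exact (hu φ₁ fun x => rfl).trans (hu φ₂ fun x => LinearMap.congr_fun h x).symm
    · obtain ⟨φ, hφ, -⟩ := hdual F hF ψ
      exact ⟨φ, LinearMap.ext fun x => (hφ x).symm⟩
  refine ext_duality k ω n Coh.IsCoh (fun F hF => LinearEquiv.ofBijective _ (hb F hF)) (fun A B _ _ p φ x => ?_)
    (exists_resolutionX f hf ω hω hO) m F hF
  show t (CohFinite.hhMap k (p ≫ φ) n x) = t (CohFinite.hhMap k φ n (CohFinite.hhMap k p n x))
  rw [CohFinite.hhMap_comp]

end Groth.Agent.SerrePn
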