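import Groth.Agent.SerrePn.Criterion
import Groth.Agent.SerrePn.ClosedTwist
import Groth.Agent.KFlat.ClosedImm
import Groth.Agent.LocH.AdjDepthChange
import Groth.Agent.InvFin.Depth
import Groth.Agent.FlatDepth.Basic
import Groth.Agent.AusBuc.Basic
import Groth.Agent.LocFree.Props

/-!
Depth at the points of closed subschemes of projective space against vanishing in negative twists.
-/

set_option autoImplicit false
set_option linter.style.haveILetI false
set_option backward.isDefEq.respectTransparency false

universe u

open CategoryTheory CategoryTheory.Limits AlgebraicGeometry TopologicalSpace IsLocalRing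

noncomputable section

namespace Groth.Agent.SerrePn

section Push

variable {X Y : Scheme.{u}} (f : X ⟶ Y) [IsClosedImmersion f]

/-- The depth of a pushforward at a point of a closed subscheme. -/
theorem depth_push [IsLocallyNoetherian X] [IsLocallyNoetherian Y] {E : X.Modules} (hE : Coh.IsCoh E) (x : X) :
    LocCoh.depth (Y.presheaf.stalk (f x)) (((Scheme.Modules.pushforward f).obj E).presheaf.stalk (f x)) =
      LocCoh.depth (X.presheaf.stalk x) (E.presheaf.stalk x) := by
  let A := Y.presheaf.stalk (f x)
  let B := X.presheaf.stalk x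
  letI : Algebra A B := (f.stalkMap x).hom.toAlgebra
  have hs : Function.Surjective (algebraMap A B) := f.stalkMap_surjective x
  letI : Module A (E.presheaf.stalk x) := Module.compHom _ (algebraMap A B)
  haveI : IsScalarTower A B (E.presheaf.stalk x) := IsScalarTower.of_algebraMap_smul fun _ _ => rfl
  let p : ((Scheme.Modules.pushforward f).obj E).presheaf.stalk (f x) →ₗ[A] E.presheaf.stalk x :=
    { toFun := KFlat.pushStalk f x E
      map_add' := map_add _
      map_smul' := fun r m => KFlat.pushStalk_smul f x E r m }
  let e := LinearEquiv.ofBijective p (KFlat.pushStalk_bijective f x E)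
  haveI : Module.Finite B (E.presheaf.stalk x) := RegDual.finite_stalk hE x
  haveI : Module.Finite A B := Module.Finite.of_surjective (Algebra.linearMap A B) hs
  haveI : Module.Finite A (E.presheaf.stalk x) := Module.Finite.trans B _
  rw [← LocH.depth_eq_of_surjective hs (E.presheaf.stalk x)]
  exact LocH.idealDepth_congr e _

theorem subsingleton_push (E : X.Modules) {y : Y} (hy : y ∉ Set.range f.base) :
    Subsingleton (((Scheme.Modules.pushforward f).obj E).presheaf.stalk y) :=
  KFlat.subsingleton_stalk_push f E hy

theorem isClosed_singleton_iff (x : X) : IsClosed ({f x} : Set Y) ↔ IsClosed ({x} : Set X) := by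
  rw [f.isClosedEmbedding.isClosed_iff_image_isClosed, Set.image_singleton]

include f in
theorem isLocallyNoetherian_of_immersion [IsLocallyNoetherian Y] : IsLocallyNoetherian X :=
  LocallyOfFiniteType.isLocallyNoetherian f

theorem isCoh_push [IsLocallyNoetherian Y] {E : X.Modules} (hE : Coh.IsCoh E) :
    Coh.IsCoh ((Scheme.Modules.pushforward f).obj E) := by
  haveI := hE.1
  exact QC.isCoh_pushforward_of_isFinite f hE.2

end Push

/-- A nonzero free finite module has the depth of the ring; the zero module has infinite depth. -/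
theorem le_depth_free {B : Type u} [CommRing B] [IsLocalRing B] [IsNoetherianRing B] {n : ℕ}
    (hB : (n : ℕ∞) ≤ LocCoh.depth B B) (M : Type u) [AddCommGroup M] [Module B M] [Module.Finite B M]
    [Module.Free B M] : (n : ℕ∞) ≤ LocCoh.depth B M := by
  rcases subsingleton_or_nontrivial M with h | h
  · rw [FlatDepth.depth_eq_top]
    exact le_top
  refine (LocH.le_idealDepth_iff _ M n).2 fun i hi => ?_
  haveI := (LocH.le_idealDepth_iff _ B n).1 hB i hi
  let ι := Module.Free.ChooseBasisIndex B M
  haveI : Fintype ι := Module.Free.ChooseBasisIndex.fintype B M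
  let q : M ≃ₗ[B] (Fin (Fintype.card ι) → B) :=
    ((Module.Free.chooseBasis B M).reindex (Fintype.equivFin ι)).equivFun
  exact (LocH.subsingleton_iff_of_iso _ i q.toModuleIso).2 (LocH.subsingleton_pi ‹_› _)

variable {k : Type u} [Field k] {N n : ℕ} {X : Scheme.{u}} (f : X ⟶ CohB1.ProjSpace N k) [IsClosedImmersion f]

theorem van_push_iff {E : X.Modules} (hE : Coh.IsCoh E) (q : ℕ) :
    (∀ i, i < q → Van ((Scheme.Modules.pushforward f).obj E) i) ↔
      ∀ x : X, IsClosed ({x} : Set X) → (q : ℕ∞) ≤ LocCoh.depth (X.presheaf.stalk x) (E.presheaf.stalk x) := by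
  haveI := CohFinite.isNoetherian_projSpace N k
  haveI := isLocallyNoetherian_of_immersion f
  rw [van_upto_iff _ (isCoh_push f hE) q]
  refine ⟨fun h x hx => ?_, fun h y hy => ?_⟩
  · rw [← depth_push f hE x]
    exact h (f x) ((isClosed_singleton_iff f x).2 hx)
  · by_cases hr : y ∈ Set.range f.base
    · obtain ⟨x, rfl⟩ := hr
      rw [depth_push f hE x]
      exact h x ((isClosed_singleton_iff f x).1 hy)
    · haveI := subsingleton_push f E hr
      rw [FlatDepth.depth_eq_top]
      exact le_top

theorem van_push_of_cm
    (hCM : ∀ x : X, IsClosed ({x} : Set ↥X) →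
      LocCoh.IsCohenMacaulayLocalRing (X.presheaf.stalk x) ∧ ringKrullDim (X.presheaf.stalk x) = n)
    {E : X.Modules} (hE : FlatMod.IsFinLocFree E) (i : ℕ) (hi : i < n) :
    Van ((Scheme.Modules.pushforward f).obj E) i := by
  haveI := CohFinite.isNoetherian_projSpace N k
  haveI := isLocallyNoetherian_of_immersion f
  have hc : Coh.IsCoh E := ⟨LocFree.isQCoh_of_isFinLocFree hE, LocFree.isFT_of_isFinLocFree hE⟩
  refine (van_push_iff f hc n).2 (fun x hx => ?_) i hi
  haveI := RegDual.finite_stalk hc x
  haveI := LocFree.free_stalk_of_isFinLocFree hE x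
  obtain ⟨hcm, hdim⟩ := hCM x hx
  refine le_depth_free ?_ _
  have h := hcm.supportDim_eq_depth
  rw [Module.supportDim_self_eq_ringKrullDim, hdim] at h
  exact le_of_eq (WithBot.coe_inj.1 h)

theorem cm_of_van_push (hn : topologicalKrullDim ↥X = n) (hO : Coh.IsCoh (Coh.structureModule X))
    (h : ∀ i, i < n → Van ((Scheme.Modules.pushforward f).obj (Coh.structureModule X)) i)
    (x : X) (hx : IsClosed ({x} : Set ↥X)) :
    LocCoh.IsCohenMacaulayLocalRing (X.presheaf.stalk x) ∧ ringKrullDim (X.presheaf.stalk x) = n := by
  haveI := CohFinite.isNoetherian_projSpace N k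
  haveI := isLocallyNoetherian_of_immersion f
  obtain ⟨u, -⟩ := RefStalk.exists_structStalk (X := X) x
  have h1 : (n : ℕ∞) ≤ LocCoh.depth (X.presheaf.stalk x) (X.presheaf.stalk x) := by
    have := (van_push_iff f hO n).1 h x hx
    rwa [LocCoh.depth, ← LocH.idealDepth_congr u] at this
  have h2 : ringKrullDim (X.presheaf.stalk x) ≤ n :=
    (RegDual.ringKrullDim_stalk_le_topologicalKrullDim x).trans hn.le
  obtain ⟨d, hd⟩ := SerreReg.exists_dim_nat (X.presheaf.stalk x)
  have hs : Module.supportDim (X.presheaf.stalk x) (X.presheaf.stalk x) = d := by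
    rw [Module.supportDim_self_eq_ringKrullDim, hd]
  have h3 := InvFin.depth_le_supportDim (X.presheaf.stalk x) hs
  rw [hd] at h2
  have hdn : d ≤ n := by exact_mod_cast h2
  have hnd : n ≤ d := by exact_mod_cast h1.trans h3
  obtain rfl : d = n := by omega
  exact ⟨{ supportDim_eq_depth := by rw [hs, le_antisymm h3 h1]; rfl }, hd⟩

end Groth.Agent.SerrePn
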