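import Groth.Agent.SerrePn.Perfect
import Groth.Agent.Horrocks.Basic
import Groth.Agent.GrT.TwistMul
import Groth.Agent.ProjMor.Base
import Groth.Agent.NegTwist.Main
import Groth.Agent.W7Cech.GlobSec
import Groth.Agent.S1576
import Groth.Agent.CohFinite.ProjSpace
import Mathlib.LinearAlgebra.Eigenspace.Triangularizable
import Mathlib.Algebra.Module.Submodule.Union

/-!
General linear forms on projective space and the drop of `h⁰` under a negative twist.
-/

set_option autoImplicit false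
set_option linter.style.haveILetI false
set_option backward.isDefEq.respectTransparency false
set_option backward.isDefEq.respectTransparency.types false

universe u

open CategoryTheory CategoryTheory.Limits AlgebraicGeometry TopologicalSpace Opposite
open Groth.Agent.QC (res resO res_res res_self app_res)
open Groth.Agent.WeakAssLib (mgerm mgerm_res)

noncomputable section

namespace Groth.Agent.SerrePn

variable {k : Type u} [Field k] {N : ℕ}

local notation "P" => CohB1.ProjSpace N k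

/-- Polynomials in the coordinates. -/
abbrev Poly (k : Type u) [Field k] (N : ℕ) := MvPolynomial (Fin (N + 1)) k

/-- Linear forms. -/
abbrev Forms (k : Type u) [Field k] (N : ℕ) := ↥(CohB1.polyGrading N k 1)

/-- A linear form as a section of `O(1)`. -/
def formSec (l : Forms k N) : Γ(Om k N ((1 : ℕ) : ℤ), ⊤) :=
  GrT.degSection (𝒜 := CohB1.polyGrading N k) l.2

section Generic

variable {R B : Type u} [CommRing R] [CommRing B] [Algebra R B] {ℳ : ℕ → Submodule R B} [GradedAlgebra ℳ]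

lemma one_notMem' (y : ProjectiveSpectrum ℳ) : (1 : B) ∉ y.asHomogeneousIdeal :=
  fun h => y.isPrime.ne_top ((Ideal.eq_top_iff_one _).mpr h)

lemma degSection_add {m : ℕ} {f g : B} (hf : f ∈ ℳ m) (hg : g ∈ ℳ m) :
    GrT.degSection (𝒜 := ℳ) (Submodule.add_mem (ℳ m) hf hg) =
      GrT.degSection (𝒜 := ℳ) hf + GrT.degSection (𝒜 := ℳ) hg := by
  refine GrT.pt_ext ℳ ℳ fun y => ?_
  refine Eq.trans ?_ (GrT.pt_add (𝒜 := ℳ) ℳ _ _ y).symm
  show GrT.fr ℳ y.1 (f + g) 1 (one_notMem' _) =
    GrT.fr ℳ y.1 f 1 (one_notMem' _) + GrT.fr ℳ y.1 g 1 (one_notMem' _)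
  rw [GrT.fr_add]
  exact GrT.fr_congr _ y.1 _ _ (by simp only [smul_eq_mul]; ring)

lemma degSection_smul (hcov : ∀ x : ProjectiveSpectrum ℳ, ∃ g ∈ ℳ 1, g ∉ x.asHomogeneousIdeal) (c : R) {m : ℕ}
    {f : B} (hf : f ∈ ℳ m) :
    GrT.degSection (𝒜 := ℳ) (Submodule.smul_mem (ℳ m) c hf) =
      (show Γ(Proj ℳ, ⊤) from ProjUP.toGlobal (ProjMor.base ℳ) c) • GrT.degSection (𝒜 := ℳ) hf := by
  refine GrT.pt_ext ℳ ℳ fun y => ?_
  refine Eq.trans ?_ (GrT.pt_smul (𝒜 := ℳ) ℳ _ _ y).symm
  obtain ⟨g, hg, hgy⟩ := hcov y.1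
  have hy : y.1 ∈ Proj.basicOpen ℳ g := (ProjectiveSpectrum.mem_basicOpen _ _ y.1).mpr hgy
  have h1 := congrArg (fun s => GrT.pO ℳ s (⟨y.1, hy⟩ : Proj.basicOpen ℳ g)) (ProjMor.res_toGlobal_base ℳ hg c)
  rw [← Groth.Agent.QC.resO_self le_rfl (GrT.deh _ hg (algebraMap R B c)),
    GrT.pO_deh _ hg (SetLike.algebraMap_mem_graded _ c) le_rfl _ (by rw [pow_zero]; exact one_notMem' _)] at h1
  have h2 : ((show Twist.O (𝒜 := ℳ) (op ⊤) from ProjUP.toGlobal (ProjMor.base ℳ) c).1 y).val =
      Localization.mk (algebraMap R B c) ⟨1, one_notMem' y.1⟩ :=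
    h1.trans (by congr 1; exact Subtype.ext (pow_zero _))
  show GrT.fr ℳ y.1 (c • f) 1 (one_notMem' _) =
    ((show Twist.O (𝒜 := ℳ) (op ⊤) from ProjUP.toGlobal (ProjMor.base ℳ) c).1 y).val •
      GrT.fr ℳ y.1 f 1 (one_notMem' _)
  rw [h2, GrT.loc_smul_fr]
  exact GrT.fr_congr _ y.1 _ _ (by simp only [smul_eq_mul, Algebra.smul_def]; ring)

end Generic

lemma formSec_add (l l' : Forms k N) : formSec (l + l') = formSec l + formSec l' :=
  degSection_add l.2 l'.2

lemma formSec_smul (c : k) (l : Forms k N) :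
    formSec (c • l) = (show Γ(P, ⊤) from Coh.toGlobal (P ↘ Spec (CommRingCat.of k)) c) • formSec l :=
  degSection_smul (fun x => by
    obtain ⟨i, hi⟩ := CohFinite.cov_X N k x
    exact ⟨_, MvPolynomial.isHomogeneous_X k i.down, hi⟩) c l.2

lemma isGen_formSec (l : Forms k N) :
    TMul.IsGen (res (Om k N ((1 : ℕ) : ℤ)) (le_top : Proj.basicOpen (CohB1.polyGrading N k) (l : Poly k N) ≤ ⊤) (formSec l)) :=
  GrT.twistGen_bijective (CohB1.polyGrading N k) l.2 (SetLike.GradedOne.one_mem (A := CohB1.polyGrading N k))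
    (by simp) le_rfl (le_top.trans (Proj.basicOpen_one _).ge)

variable (F : (CohB1.ProjSpace N k).Modules)

local notation "Fm" => CohB1.tensorMod F (Om k N (-1))

/-- Global sections as a vector space. -/
abbrev Sec (G : (CohB1.ProjSpace N k).Modules) : Type u := ((CohIII.globalSectionsA k).obj G : Type u)

lemma finrank_sec (G : (CohB1.ProjSpace N k).Modules) :
    Module.finrank k (Sec G) = Module.finrank k (Coh.HH (CohB1.ProjSpace N k) G 0) :=
  (W7Cech.gsH0L k G).finrank_eq

lemma finite_sec {G : (CohB1.ProjSpace N k).Modules} (hG : Coh.IsCoh G) : Module.Finite k (Sec G) :=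
  haveI := CohFinite.finite_projSpace N k G hG 0
  Module.Finite.equiv (W7Cech.gsH0L k G).symm

/-- Multiplication by linear forms. -/
theorem exists_mult (hF : Coh.IsCoh F) :
    ∃ μ : Forms k N →ₗ[k] (Sec Fm →ₗ[k] Sec F),
      ∀ l : Forms k N, (∀ η, Curv2.IsAssPoint F η → (l : Poly k N) ∉ η.asHomogeneousIdeal) → Function.Injective (μ l) := by
  haveI := CohFinite.isNoetherian_projSpace N k
  obtain ⟨θ⟩ := exists_theta k N (-1) ((1 : ℕ) : ℤ) (by norm_num)
  let e := untw θ F
  let f : Forms k N → Γ(Fm, ⊤) → Γ(F, ⊤) := fun l w => e.hom.app ⊤ (TMul.tm w (formSec l))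
  have ha : ∀ (l l' : Forms k N) (w : Γ(Fm, ⊤)), f (l + l') w = f l w + f l' w := fun l l' w => by
    show e.hom.app ⊤ (TMul.tm w (formSec (l + l'))) = _
    rw [formSec_add, TMul.add_tm, map_add]
  have hb : ∀ (l : Forms k N) (w w' : Γ(Fm, ⊤)), f l (w + w') = f l w + f l w' := fun l w w' => by
    show e.hom.app ⊤ (TMul.tm (w + w') (formSec l)) = _
    rw [TMul.tm_add, map_add]
  have hc : ∀ (c : k) (l : Forms k N) (w : Γ(Fm, ⊤)), f (c • l) w =
      (show Γ(P, ⊤) from Coh.toGlobal (P ↘ Spec (CommRingCat.of k)) c) • f l w := fun c l w => by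
    show e.hom.app ⊤ (TMul.tm w (formSec (c • l))) = _
    rw [formSec_smul, TMul.tm_smul, Scheme.Modules.Hom.app_smul]
  have hd : ∀ (c : Γ(P, ⊤)) (l : Forms k N) (w : Γ(Fm, ⊤)), f l (c • w) = c • f l w := fun c l w => by
    show e.hom.app ⊤ (TMul.tm (c • w) (formSec l)) = _
    rw [TMul.smul_tm, Scheme.Modules.Hom.app_smul]
  let μ : Forms k N →ₗ[k] (Sec Fm →ₗ[k] Sec F) := LinearMap.mk₂ k (fun l (w : Sec Fm) => (f l w : Sec F))
    (fun l l' w => ha l l' w) (fun c l w => hc c l w) (fun l w w' => hb l w w')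
    (fun c l w => hd (Coh.toGlobal (P ↘ Spec (CommRingCat.of k)) c) l w)
  refine ⟨μ, fun l hl => (injective_iff_map_eq_zero _).2 fun w hw => ?_⟩
  change Γ(Fm, ⊤) at w
  refine NegTwist.eq_zero_of_tensor hF.1 (CohFinite.isInvertible_twist N k (-1)) w fun η _ hη => ?_
  have hηl : η ∈ Proj.basicOpen (CohB1.polyGrading N k) (l : Poly k N) := (ProjectiveSpectrum.mem_basicOpen _ _ η).mpr (hl η hη)
  have h0 : TMul.tm (M := Fm) w (formSec l) = 0 := by
    have := congrArg (e.inv.app ⊤) (show e.hom.app ⊤ (TMul.tm (M := Fm) w (formSec l)) = 0 from hw)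
    rw [map_zero] at this
    exact (ConcreteCategory.congr_hom (congrArg (fun ψ => Scheme.Modules.Hom.app ψ ⊤) e.hom_inv_id) _).symm.trans this
  have h1 : TMul.tm (res Fm (le_top : Proj.basicOpen (CohB1.polyGrading N k) (l : Poly k N) ≤ ⊤) w)
      (res (Om k N ((1 : ℕ) : ℤ)) le_top (formSec l)) = 0 := by
    rw [← TMul.res_tm, h0, map_zero]
  have h2 : res Fm (le_top : Proj.basicOpen (CohB1.polyGrading N k) (l : Poly k N) ≤ ⊤) w = 0 := by
    have hb := TMul.tm_bijective (M := Fm) (isGen_formSec l) _ le_rfl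
    refine hb.1 ?_
    simp only [res_self]
    rw [h1, TMul.zero_tm]
  rw [← mgerm_res Fm (le_top : Proj.basicOpen (CohB1.polyGrading N k) (l : Poly k N) ≤ ⊤) hηl w, h2, map_zero]

/-- The forms through a point. -/
def formsAt (η : CohB1.ProjSpace N k) : Submodule k (Forms k N) :=
  Submodule.comap (Submodule.subtype _) ((η.asHomogeneousIdeal.toIdeal).restrictScalars k)

lemma mem_formsAt {η : CohB1.ProjSpace N k} {l : Forms k N} : l ∈ formsAt η ↔ (l : Poly k N) ∈ η.asHomogeneousIdeal :=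
  Iff.rfl

/-- The `i`th coordinate. -/
def xForm (i : Fin (N + 1)) : Forms k N := ⟨MvPolynomial.X i, MvPolynomial.isHomogeneous_X k i⟩

lemma formsAt_ne_top (η : CohB1.ProjSpace N k) : formsAt η ≠ ⊤ := fun h => by
  obtain ⟨i, hi⟩ := CohFinite.cov_X N k η
  exact hi (mem_formsAt.1 (h.ge (trivial : xForm i.down ∈ ⊤)))

/-- A point whose linear forms make up a hyperplane is closed. -/
theorem sup_span_ne_top {η : CohB1.ProjSpace N k} (hη : ¬ IsClosed ({η} : Set (CohB1.ProjSpace N k)))
    (s : Forms k N) : formsAt η ⊔ Submodule.span k {s} ≠ ⊤ := fun htop => hη (by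
  rw [← closure_subset_iff_isClosed]
  intro q hq
  rw [Set.mem_singleton_iff]
  have hle : η.asHomogeneousIdeal ≤ q.asHomogeneousIdeal :=
    (ProjectiveSpectrum.le_iff_mem_closure (𝒜 := CohB1.polyGrading N k) η q).2 hq
  have hX : ∀ i : Fin (N + 1), ∃ a : k, (MvPolynomial.X i : Poly k N) - a • (s : Poly k N) ∈ η.asHomogeneousIdeal := fun i => by
    obtain ⟨u, hu, v, hv, huv⟩ := Submodule.mem_sup.1 (htop.ge (trivial : xForm i ∈ ⊤))
    obtain ⟨a, rfl⟩ := Submodule.mem_span_singleton.1 hv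
    refine ⟨a, ?_⟩
    have : (MvPolynomial.X i : Poly k N) - a • (s : Poly k N) = (u : Poly k N) := by
      rw [sub_eq_iff_eq_add]; exact (congrArg Subtype.val huv).symm
    rw [this]
    exact mem_formsAt.1 hu
  choose a ha using hX
  let π := Ideal.Quotient.mkₐ k η.asHomogeneousIdeal.toIdeal
  have hmod : π = (π.comp (MvPolynomial.aeval fun i => a i • (s : Poly k N))) := MvPolynomial.algHom_ext fun i => by
    rw [AlgHom.comp_apply, MvPolynomial.aeval_X]
    exact Ideal.Quotient.eq.2 (ha i)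
  have hkey : ∀ (d : ℕ) (f : Poly k N), f ∈ CohB1.polyGrading N k d →
      f - MvPolynomial.eval a f • (s : Poly k N) ^ d ∈ η.asHomogeneousIdeal := fun d f hf => by
    refine Ideal.Quotient.eq.1 (Eq.trans (AlgHom.congr_fun hmod f) ?_)
    show π (MvPolynomial.aeval (fun i => a i • (s : Poly k N)) f) = π (MvPolynomial.eval a f • (s : Poly k N) ^ d)
    refine congrArg π ?_
    rw [MvPolynomial.aeval_def, MvPolynomial.eval₂_eq, MvPolynomial.eval_eq, Finset.sum_smul]
    refine Finset.sum_congr rfl fun m hm => ?_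
    have hd : ∑ i ∈ m.support, m i = d := by
      have h := hf (MvPolynomial.mem_support_iff.1 hm)
      rw [Finsupp.weight_apply, Finsupp.sum] at h
      simpa using h
    rw [Finset.prod_congr rfl fun i _ => smul_pow (a i) (s : Poly k N) (m i), Finset.prod_smul, Finset.prod_pow_eq_pow_sum,
      hd, mul_smul, Algebra.smul_def (MvPolynomial.coeff m f) (_ • _)]
  have hle' : q.asHomogeneousIdeal ≤ η.asHomogeneousIdeal := by
    intro f hf
    classical
    rw [← DirectSum.sum_support_decompose (CohB1.polyGrading N k) f]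
    refine Ideal.sum_mem _ fun d _ => ?_
    have hfd : ((DirectSum.decompose (CohB1.polyGrading N k) f d : Poly k N)) ∈ q.asHomogeneousIdeal :=
      q.asHomogeneousIdeal.isHomogeneous d hf
    have h1 := hkey d _ (SetLike.coe_mem (DirectSum.decompose (CohB1.polyGrading N k) f d))
    by_cases hc : MvPolynomial.eval a (DirectSum.decompose (CohB1.polyGrading N k) f d : Poly k N) = 0
    · rwa [hc, zero_smul, sub_zero] at h1
    · exfalso
      have h2 := Ideal.sub_mem _ hfd (hle h1)
      rw [sub_sub_cancel] at h2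
      have hs : (s : Poly k N) ∈ q.asHomogeneousIdeal := by
        refine q.isPrime.mem_of_pow_mem d ?_
        have h3 := Ideal.mul_mem_left _ (algebraMap k (Poly k N) (MvPolynomial.eval a (DirectSum.decompose (CohB1.polyGrading N k) f d : Poly k N))⁻¹) h2
        rwa [Algebra.smul_def, ← mul_assoc, ← map_mul, inv_mul_cancel₀ hc, map_one, one_mul] at h3
      obtain ⟨i, hi⟩ := CohFinite.cov_X N k q
      refine hi ?_
      have h4 := Ideal.add_mem _ (hle (ha i.down)) (Submodule.smul_of_tower_mem q.asHomogeneousIdeal.toIdeal (a i.down) hs)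
      rwa [sub_add_cancel] at h4
  exact (le_antisymm hle' hle) |> ProjectiveSpectrum.ext)

/-- `h⁰` does not grow under a negative twist. -/
theorem finrank_twist_le [Infinite k] (hF : Coh.IsCoh F) :
    Module.finrank k (Coh.HH (CohB1.ProjSpace N k) Fm 0) ≤ Module.finrank k (Coh.HH (CohB1.ProjSpace N k) F 0) := by
  haveI := CohFinite.isNoetherian_projSpace N k
  have hfin : {x : CohB1.ProjSpace N k | x ∈ (⊤ : (CohB1.ProjSpace N k).Opens) ∧ Curv2.IsAssPoint F x}.Finite :=
    Groth.Agent.S1576.result _ F hF ⊤ isCompact_univ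
  haveI := hfin.to_subtype
  let ι := {x : CohB1.ProjSpace N k | x ∈ (⊤ : (CohB1.ProjSpace N k).Opens) ∧ Curv2.IsAssPoint F x}
  obtain ⟨μ, hμ⟩ := exists_mult F hF
  obtain ⟨s, hs⟩ := Submodule.exists_forall_notMem_of_forall_ne_top (K := k) (M := Forms k N)
    (fun x : ι => formsAt x.1) fun x => formsAt_ne_top _
  haveI := finite_sec hF
  rw [← finrank_sec, ← finrank_sec]
  exact LinearMap.finrank_le_finrank_of_injective (hμ s fun η hη h => hs ⟨η, trivial, hη⟩ (mem_formsAt.2 h))

/-- Twisting does not change the associated points. -/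
theorem isAssPoint_tw (a : ℤ) (x : CohB1.ProjSpace N k) :
    Curv2.IsAssPoint (Horrocks.tw F a) x ↔ Curv2.IsAssPoint F x := by
  obtain ⟨D, g, hxD, hg⟩ := TMul.exists_isGen (CohFinite.isInvertible_twist N k a) x
  obtain ⟨Φ, -⟩ := NegTwist.exists_stalkEquiv (F := F) hxD hg
  exact (LinearEquiv.isAssociatedPrime_iff Φ).symm

/-- `h⁰` drops under a negative twist. -/
theorem finrank_drop [IsAlgClosed k] (hF : Coh.IsCoh F)
    (hass : ∀ x : CohB1.ProjSpace N k, Curv2.IsAssPoint F x → ¬ IsClosed ({x} : Set (CohB1.ProjSpace N k)))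
    (h0 : 1 ≤ Module.finrank k (Coh.HH (CohB1.ProjSpace N k) F 0)) :
    Module.finrank k (Coh.HH (CohB1.ProjSpace N k) Fm 0) + 1 ≤ Module.finrank k (Coh.HH (CohB1.ProjSpace N k) F 0) := by
  haveI := CohFinite.isNoetherian_projSpace N k
  have hfin : {x : CohB1.ProjSpace N k | x ∈ (⊤ : (CohB1.ProjSpace N k).Opens) ∧ Curv2.IsAssPoint F x}.Finite :=
    Groth.Agent.S1576.result _ F hF ⊤ isCompact_univ
  haveI := hfin.to_subtype
  let ι := {x : CohB1.ProjSpace N k | x ∈ (⊤ : (CohB1.ProjSpace N k).Opens) ∧ Curv2.IsAssPoint F x}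
  obtain ⟨μ, hμ⟩ := exists_mult F hF
  obtain ⟨s, hs⟩ := Submodule.exists_forall_notMem_of_forall_ne_top (K := k) (M := Forms k N)
    (fun x : ι => formsAt x.1) fun x => formsAt_ne_top _
  obtain ⟨s', hs'⟩ := Submodule.exists_forall_notMem_of_forall_ne_top (K := k) (M := Forms k N)
    (fun x : ι => formsAt x.1 ⊔ Submodule.span k {s}) fun x => sup_span_ne_top (hass _ x.2.2) s
  have hsinj : Function.Injective (μ s) := hμ s fun η hη h => hs ⟨η, trivial, hη⟩ (mem_formsAt.2 h)
  haveI := finite_sec hF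
  haveI := finite_sec (Horrocks.isCoh_tw hF (-1))
  rw [← finrank_sec, ← finrank_sec] at *
  by_contra hlt
  have heq : Module.finrank k (Sec Fm) = Module.finrank k (Sec F) :=
    le_antisymm (LinearMap.finrank_le_finrank_of_injective hsinj) (by omega)
  let T := LinearEquiv.ofInjectiveOfFinrankEq (μ s) hsinj heq
  haveI : Nontrivial (Sec Fm) := Module.nontrivial_of_finrank_pos (R := k) (by omega)
  obtain ⟨c, hc⟩ := Module.End.exists_eigenvalue (T.symm.toLinearMap ∘ₗ μ s' : Module.End k (Sec Fm))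
  obtain ⟨w, hw⟩ := hc.exists_hasEigenvector
  have h1 : μ s' w = c • μ s w := by
    have := congrArg (fun v => T v) (hw.apply_eq_smul)
    simp only [LinearMap.comp_apply, LinearEquiv.coe_coe, LinearEquiv.apply_symm_apply, map_smul] at this
    exact this
  have hinj : Function.Injective (μ (s' - c • s)) := hμ _ fun η hη h => by
    refine hs' ⟨η, trivial, hη⟩ ?_
    rw [← sub_add_cancel s' (c • s)]
    exact Submodule.add_mem_sup (mem_formsAt.2 h) (Submodule.smul_mem _ c (Submodule.mem_span_singleton_self s))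
  refine hw.2 (hinj ?_)
  rw [map_zero, map_sub, map_smul, LinearMap.sub_apply, LinearMap.smul_apply, h1, sub_self]

end Groth.Agent.SerrePn
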