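import Groth.Agent.SerrePn.Basic
import Groth.Agent.P1Split.Dim

/-!
The top-degree duality `Hom(F, O(-n-1)) = Hⁿ(F)^∨` on projective space.
-/

set_option autoImplicit false
set_option linter.style.haveILetI false
set_option linter.unusedSectionVars false
set_option backward.isDefEq.respectTransparency false

universe u

open CategoryTheory CategoryTheory.Limits AlgebraicGeometry TopologicalSpace Opposite

noncomputable section

namespace Groth.Agent.SerrePn

variable (k : Type u) [Field k] (n : ℕ)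

/-- `O(a)`. -/
abbrev Om (a : ℤ) : (CohB1.ProjSpace n k).Modules := Twist.twistProjSpace n k a

/-- `ω`. -/
abbrev om : (CohB1.ProjSpace n k).Modules := Twist.twistProjSpace n k (-((n : ℤ) + 1))

lemma exists_theta (a b : ℤ) (h : a + b = 0) :
    Nonempty (CohB1.tensorMod (Om k n a) (Om k n b) ≅ Coh.structureModule (CohB1.ProjSpace n k)) := by
  obtain ⟨i⟩ := RegCx.twist_twist (k := k) (n := n) a b 0 h
  obtain ⟨j⟩ := GrT.nonempty_twist_zero_iso (𝒜 := CohB1.polyGrading n k)
  exact ⟨i ≪≫ j⟩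

lemma finrank_h0 (j : ℕ) :
    Module.finrank k (Coh.HH (CohB1.ProjSpace n k) (Om k n (j : ℤ)) 0) = (n + j).choose j := by
  classical
  obtain ⟨e⟩ := ProjCech.zero_equiv (R := k) n j
  rw [e.finrank_eq, (PlaneForms.finite_homogeneous_and_finrank (σ := Fin (n + 1)) j).2, Fintype.card_fin,
    show n + 1 + j - 1 = n + j by omega]

lemma finrank_hn (a : ℤ) (j : ℕ) (h : a = -((n : ℤ) + 1 + j)) :
    Module.finrank k (Coh.HH (CohB1.ProjSpace n k) (Om k n a) n) = (n + j).choose j := by
  classical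
  subst h
  obtain ⟨e⟩ := ProjCech.top_equiv (R := k) n j
  rw [e.finrank_eq, (PlaneForms.finite_homogeneous_and_finrank (σ := Fin (n + 1)) j).2, Fintype.card_fin,
    show n + 1 + j - 1 = n + j by omega]

lemma finrank_h0_eq_hn (a b : ℤ) (h : a + b = -((n : ℤ) + 1)) :
    Module.finrank k (Coh.HH (CohB1.ProjSpace n k) (Om k n b) 0) =
      Module.finrank k (Coh.HH (CohB1.ProjSpace n k) (Om k n a) n) := by
  rcases le_or_gt 0 b with hb | hb
  · obtain ⟨j, rfl⟩ := Int.eq_ofNat_of_zero_le hb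
    rw [finrank_h0, finrank_hn k n a j (by omega)]
  · rcases n with _ | n
    · obtain ⟨i, rfl⟩ : ∃ i : ℕ, a = (i : ℤ) := ⟨a.toNat, by omega⟩
      obtain ⟨j, hj⟩ : ∃ j : ℕ, b = -(((0 : ℕ) : ℤ) + 1 + j) := ⟨(-b - 1).toNat, by omega⟩
      subst hj
      rw [finrank_hn k 0 _ j rfl, finrank_h0]
      simp
    · haveI := ProjCech.twist_vanish (R := k) (n + 1) b 0 (by omega) (by omega)
      haveI := ProjCech.twist_vanish (R := k) (n + 1) a (n + 1) (by omega) (by omega)
      simp only [Module.finrank_zero_of_subsingleton]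

lemma exists_trace : Nonempty (Coh.HH (CohB1.ProjSpace n k) (om k n) n ≃ₗ[k] k) := by
  haveI : Module.Finite k (Coh.HH (CohB1.ProjSpace n k) (om k n) n) :=
    CohFinite.finite_projSpace n k _ (CohFinite.isCoh_twist n k _) n
  refine FiniteDimensional.nonempty_linearEquiv_of_finrank_eq ?_
  rw [Module.finrank_self]
  exact (finrank_hn k n (-((n : ℤ) + 1)) 0 (by simp)).trans (Nat.choose_zero_right _)

/-- A trace on the top cohomology of `ω`. -/
def tr : Coh.HH (CohB1.ProjSpace n k) (om k n) n ≃ₗ[k] k := (exists_trace k n).some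

/-- The pairing. -/
def pair (F : (CohB1.ProjSpace n k).Modules) :
    (F ⟶ om k n) →ₗ[k] Module.Dual k (Coh.HH (CohB1.ProjSpace n k) F n) :=
  (LinearMap.compRight k (tr k n : Coh.HH (CohB1.ProjSpace n k) (om k n) n →ₗ[k] k)).comp
    (hhHom k F (om k n) n)

variable {k n}

lemma pair_apply {F : (CohB1.ProjSpace n k).Modules} (φ : F ⟶ om k n) (x : Coh.HH (CohB1.ProjSpace n k) F n) :
    pair k n F φ x = tr k n (CohFinite.hhMap k φ n x) := rfl

lemma pair_comp {F G : (CohB1.ProjSpace n k).Modules} (p : F ⟶ G) (φ : G ⟶ om k n)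
    (x : Coh.HH (CohB1.ProjSpace n k) F n) :
    pair k n F (p ≫ φ) x = pair k n G φ (CohFinite.hhMap k p n x) := by
  rw [pair_apply, pair_apply, CohFinite.hhMap_comp]

set_option maxHeartbeats 1000000 in
/-- `H^n` detects maps from twists into `ω`. -/
lemma hh_map_ne_zero {a : ℤ} (φ : Om k n a ⟶ om k n) (hφ : φ ≠ 0) : CohFinite.hhMap k φ n ≠ 0 := by
  intro h0
  rcases Nat.eq_zero_or_pos n with hn | hn
  · subst hn
    refine hφ (LinRes.hom_eq_zero _ (CohFinite.isCoh_twist 0 k a) (fun q hq hqn => absurd hq (by omega)) φ fun z => ?_)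
    have h1 := h0_natural k φ ((Sheaf.H.equiv₀ (Coh.toAb (Om k 0 a))
      (isTerminalTop : IsTerminal (⊤ : (CohB1.ProjSpace 0 k).Opens))).symm z)
    refine ((congrArg (φ.app ⊤) (AddEquiv.apply_symm_apply _ z)).symm.trans h1.symm).trans ?_
    exact (congrArg (Sheaf.H.equiv₀ (Coh.toAb (om k 0)) _) (LinearMap.congr_fun h0 _)).trans (map_zero _)
  let b : ℤ := -((n : ℤ) + 1)
  obtain ⟨θ'⟩ := exists_theta k n b (-b) (by ring)
  obtain ⟨θ⟩ := exists_theta k n (-b) b (by ring)
  let ψ : CohB1.tensorMod (Om k n a) (Om k n (-b)) ⟶ Coh.structureModule (CohB1.ProjSpace n k) :=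
    CohFinite.tmap φ (Om k n (-b)) ≫ θ'.hom
  have hψ : ψ ≠ 0 := fun h => hφ (LinRes.eq_zero_of_tmap (CohFinite.isInvertible_twist n k (-b)) φ
    ((cancel_mono θ'.hom).1 (h.trans zero_comp.symm)))
  have hsurj := Horrocks.hd_surjective_of_ne_zero (k := k) hn
    (CohFinite.isCoh_tensor (CohFinite.isCoh_twist n k a) (CohFinite.isInvertible_twist n k (-b))).1 ψ hψ b
  have he : CohFinite.tmap ψ (Om k n b) =
      (untw θ (Om k n a)).hom ≫ φ ≫ (untw θ (om k n)).inv ≫ CohFinite.tmap θ'.hom (Om k n b) := by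
    rw [CohFinite.tmap_comp, ← reassoc_of% (untw_natural θ φ), Iso.hom_inv_id_assoc]
  obtain ⟨e⟩ : Nonempty (CohB1.tensorMod (Coh.structureModule (CohB1.ProjSpace n k)) (Om k n b) ≅ om k n) :=
    ⟨TMul.leftUnitIso _⟩
  have hne : ¬ Subsingleton (Coh.HH (CohB1.ProjSpace n k) (om k n) n) := fun h =>
    zero_ne_one (α := k) ((tr k n).toEquiv.symm.injective (h.elim _ _))
  refine hne (subsingleton_of_forall_eq 0 fun y => ?_)
  obtain ⟨x, hx⟩ := hsurj (CohFinite.hhMap k e.inv n y)
  have hy : y = CohFinite.hhMap k e.hom n (CohFinite.hhMap k e.inv n y) := by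
    rw [← CohFinite.hhMap_comp, e.inv_hom_id, CohFinite.hhMap_id]
  rw [hy, ← hx, he, CohFinite.hhMap_comp, CohFinite.hhMap_comp, CohFinite.hhMap_comp, h0]
  simp

theorem pair_bijective_twist (a : ℤ) : Function.Bijective (pair k n (Om k n a)) := by
  have hinj : Function.Injective (pair k n (Om k n a)) := by
    refine (injective_iff_map_eq_zero _).2 fun φ h => ?_
    by_contra hφ
    exact hh_map_ne_zero φ hφ (LinearMap.ext fun x => (tr k n).injective
      ((LinearMap.congr_fun h x).trans (map_zero _).symm))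
  haveI : Module.Finite k (Coh.HH (CohB1.ProjSpace n k) (Om k n a) n) :=
    CohFinite.finite_projSpace n k _ (CohFinite.isCoh_twist n k a) n
  haveI : Module.Finite k (Om k n a ⟶ om k n) := Module.Finite.of_injective _ hinj
  refine ⟨hinj, (LinearMap.injective_iff_surjective_of_finrank_eq_finrank ?_).1 hinj⟩
  obtain ⟨θ⟩ := exists_theta k n (-a) a (by ring)
  obtain ⟨E⟩ := nonempty_homEquiv k (CohFinite.isInvertible_twist n k (-a)) θ (om k n)
  obtain ⟨i⟩ := RegCx.twist_twist (k := k) (n := n) (-((n : ℤ) + 1)) (-a) (-((n : ℤ) + 1) - a) (by ring)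
  rw [E.finrank_eq, (CohFinite.hhEquiv k i 0).finrank_eq, Subspace.dual_finrank_eq]
  exact finrank_h0_eq_hn k n a _ (by ring)

theorem pair_bijective_coprod {r : ℕ} (T : Fin r → (CohB1.ProjSpace n k).Modules)
    (h : ∀ j, Function.Bijective (pair k n (T j))) : Function.Bijective (pair k n (∐ T)) := by
  obtain ⟨π, -, -, h3⟩ := P1Split.exists_proj T
  refine ⟨(injective_iff_map_eq_zero _).2 fun φ hφ => Sigma.hom_ext _ _ fun j => ?_, fun ψ => ?_⟩
  · rw [comp_zero]
    refine (h j).1 (LinearMap.ext fun x => ?_)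
    rw [pair_comp, hφ, map_zero, LinearMap.zero_apply, LinearMap.zero_apply]
  · choose φ hφ using fun j => (h j).2 (ψ.comp (CohFinite.hhMap k (Sigma.ι T j) n))
    refine ⟨∑ j, π j ≫ φ j, LinearMap.ext fun x => ?_⟩
    have hx : x = ∑ j, CohFinite.hhMap k (Sigma.ι T j) n (CohFinite.hhMap k (π j) n x) := by
      have := congrArg (fun f => hhHom k (∐ T) (∐ T) n f x) h3
      simp only [map_sum, LinearMap.sum_apply, hhHom_apply, CohFinite.hhMap_comp, CohFinite.hhMap_id] at this
      exact this.symm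
    conv_rhs => rw [hx, map_sum]
    rw [map_sum, LinearMap.sum_apply]
    refine Finset.sum_congr rfl fun j _ => ?_
    rw [pair_comp]
    exact LinearMap.congr_fun (hφ j) _

/-- A sum of twists `O(-N)` covers any coherent module. -/
lemma exists_presentation (F : (CohB1.ProjSpace n k).Modules) (hF : Coh.IsCoh F) (N₀ : ℕ) :
    ∃ (N r : ℕ) (p : (∐ fun _ : Fin r => Om k n (-(N : ℤ))) ⟶ F), N₀ ≤ N ∧ Epi p := by
  obtain ⟨N₁, hN⟩ := GrT.exists_epi_twists
    (v := fun i : ProjCech.J.{u} n => (MvPolynomial.X i.down : MvPolynomial (Fin (n + 1)) k))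
    (fun i => MvPolynomial.isHomogeneous_X k i.down) hF.1 hF.2 (CohFinite.cov_X n k)
  obtain ⟨r, p, hp⟩ := hN (max N₀ N₁) (le_max_right _ _)
  exact ⟨max N₀ N₁, r, p, le_max_left _ _, hp⟩

lemma isCoh_sum {r : ℕ} (a : Fin r → ℤ) : Coh.IsCoh (∐ fun j => Om k n (a j)) := by
  haveI := Abelian.hasFiniteBiproducts (C := (CohB1.ProjSpace n k).Modules)
  have hb := Devissage.isCoh_biproduct (fun j => Om k n (a j)) fun j => CohFinite.isCoh_twist n k (a j)
  exact Groth.Agent.QC.isCoh_of_epi hb (Groth.Agent.QC.isQCoh_of_iso (biproduct.isoCoproduct _) hb.1)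
    (biproduct.isoCoproduct _).hom

lemma hn_surjective {S : ShortComplex (CohB1.ProjSpace n k).Modules} (hS : S.ShortExact)
    (h₁ : Coh.IsQCoh S.X₁) : Function.Surjective (CohFinite.hhMap k S.g n) := fun x => by
  haveI := h₁
  exact (CohFinite.δH_eq_zero_iff (CohFinite.shortExact_toAb hS) n x).1
    ((Groth.Agent.S0022.result n k S.X₁ (n + 1) (Nat.lt_succ_self n)).elim _ _)

theorem pair_injective (F : (CohB1.ProjSpace n k).Modules) (hF : Coh.IsCoh F) :
    Function.Injective (pair k n F) := by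
  obtain ⟨N, r, p, -, hp⟩ := exists_presentation F hF 0
  refine (injective_iff_map_eq_zero _).2 fun φ hφ => (cancel_epi p).1 ?_
  rw [comp_zero]
  refine (pair_bijective_coprod _ fun _ => pair_bijective_twist (-(N : ℤ))).1 (LinearMap.ext fun x => ?_)
  rw [pair_comp, hφ, map_zero, LinearMap.zero_apply, LinearMap.zero_apply]

theorem isCoh_kernel' {P F : (CohB1.ProjSpace n k).Modules} (hP : Coh.IsCoh P) (hF : Coh.IsCoh F) (p : P ⟶ F) :
    Coh.IsCoh (kernel p) := by
  haveI := CohFinite.isNoetherian_projSpace n k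
  exact Groth.Agent.QC.isCoh_kernel hP hF.1 p

/-- Serre duality in the top degree. -/
theorem pair_bijective (F : (CohB1.ProjSpace n k).Modules) (hF : Coh.IsCoh F) :
    Function.Bijective (pair k n F) := by
  refine ⟨pair_injective F hF, fun ψ => ?_⟩
  obtain ⟨N, r, p, -, hp⟩ := exists_presentation F hF 0
  have hP := isCoh_sum (k := k) (n := n) (fun _ : Fin r => -(N : ℤ))
  let S : ShortComplex (CohB1.ProjSpace n k).Modules := ShortComplex.mk (kernel.ι p) p (kernel.condition p)
  have hS : S.ShortExact := { exact := ShortComplex.exact_of_f_is_kernel _ (kernelIsKernel p) }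
  have hK : Coh.IsCoh (kernel p) := isCoh_kernel' hP hF p
  obtain ⟨φ₀, hφ₀⟩ := (pair_bijective_coprod _ fun _ : Fin r => pair_bijective_twist (k := k) (n := n) (-(N : ℤ))).2
    (ψ.comp (CohFinite.hhMap k p n))
  have hz : S.f ≫ φ₀ = 0 := pair_injective _ hK (LinearMap.ext fun x => by
    rw [pair_comp, hφ₀, map_zero, LinearMap.zero_apply, LinearMap.comp_apply, ← CohFinite.hhMap_comp, S.zero]
    rw [show CohFinite.hhMap k (0 : kernel p ⟶ F) n = 0 from map_zero (hhHom k _ F n), LinearMap.zero_apply, map_zero])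
  haveI := hS.epi_g
  refine ⟨hS.exact.desc φ₀ hz, LinearMap.ext fun y => ?_⟩
  obtain ⟨x, rfl⟩ := hn_surjective hS hK.1 y
  rw [← pair_comp, hS.exact.g_desc, hφ₀]
  rfl

/-- The pairing as an equivalence. -/
def pairEquiv (F : (CohB1.ProjSpace n k).Modules) (hF : Coh.IsCoh F) :
    (F ⟶ om k n) ≃ₗ[k] Module.Dual k (Coh.HH (CohB1.ProjSpace n k) F n) :=
  LinearEquiv.ofBijective _ (pair_bijective F hF)

end Groth.Agent.SerrePn
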