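import Groth.Agent.SerrePn.Perfect
import Groth.Agent.QC.IdealMod
import Groth.Agent.InvGen.Basic
import Mathlib.AlgebraicGeometry.IdealSheaf.Subscheme

/-!
Cohomology of the twists of a hypersurface in projective space.
-/

set_option autoImplicit false
set_option linter.style.haveILetI false
set_option backward.isDefEq.respectTransparency false

universe u

open CategoryTheory CategoryTheory.Limits AlgebraicGeometry TopologicalSpace Opposite

noncomputable section

namespace Groth.Agent.SerrePn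

lemma epi_toSubscheme {X : Scheme.{u}} (I : X.IdealSheafData) : Epi (ClSub.toSubscheme I) := by
  refine InvGen.epi_of_locally _ fun U t x hx => ?_
  obtain ⟨W, hW, hxW, hWU⟩ := exists_isAffineOpen_mem_and_subset hx
  obtain ⟨s, hs⟩ := I.subschemeι_app_surjective ⟨W, hW⟩ (Groth.Agent.QC.res _ hWU t)
  exact ⟨W, hWU, hxW, s, hs⟩

/-- The sequence of an ideal sheaf. -/
def idealSeq {X : Scheme.{u}} (I : X.IdealSheafData) : ShortComplex X.Modules :=
  ShortComplex.mk (ClSub.idealModι I) (ClSub.toSubscheme I) (kernel.condition _)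

lemma idealSeq_shortExact {X : Scheme.{u}} (I : X.IdealSheafData) : (idealSeq I).ShortExact :=
  haveI := epi_toSubscheme I
  { exact := ShortComplex.exact_of_f_is_kernel _ (kernelIsKernel _)
    mono_f := inferInstanceAs (Mono (kernel.ι _))
    epi_g := inferInstanceAs (Epi (ClSub.toSubscheme I)) }

section LES

variable (k : Type u) [Field k] {X : Scheme.{u}} [X.Over (Spec (CommRingCat.of k))]
  {S : ShortComplex X.Modules} (hS : S.ShortExact)

include hS in
lemma finrank_add_of_surjective (q : ℕ) [Module.Finite k (Coh.HH X S.X₁ (q + 1))] [Module.Finite k (Coh.HH X S.X₂ (q + 1))]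
    [Module.Finite k (Coh.HH X S.X₂ q)] [Module.Finite k (Coh.HH X S.X₃ q)]
    (h : Function.Surjective (CohFinite.hhMap k S.f (q + 1))) :
    Module.finrank k (Coh.HH X S.X₃ q) + Module.finrank k (Coh.HH X S.X₂ (q + 1)) +
        Module.finrank k (LinearMap.range (CohFinite.hhMap k S.f q)) =
      Module.finrank k (Coh.HH X S.X₂ q) + Module.finrank k (Coh.HH X S.X₁ (q + 1)) := by
  have e₁ : LinearMap.ker (CohFinite.hhδ k hS q) = LinearMap.range (CohFinite.hhMap k S.g q) := by
    ext x; exact CohFinite.δH_eq_zero_iff (CohFinite.shortExact_toAb hS) q x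
  have e₂ : LinearMap.ker (CohFinite.hhMap k S.f (q + 1)) = LinearMap.range (CohFinite.hhδ k hS q) := by
    ext x; exact CohFinite.map_f_eq_zero_iff (CohFinite.shortExact_toAb hS) q x
  have e₃ : LinearMap.ker (CohFinite.hhMap k S.g q) = LinearMap.range (CohFinite.hhMap k S.f q) := by
    ext x; exact CohFinite.map_g_eq_zero_iff (CohFinite.shortExact_toAb hS) q x
  have h₁ := LinearMap.finrank_range_add_finrank_ker (CohFinite.hhδ k hS q)
  have h₂ := LinearMap.finrank_range_add_finrank_ker (CohFinite.hhMap k S.f (q + 1))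
  have h₃ := LinearMap.finrank_range_add_finrank_ker (CohFinite.hhMap k S.g q)
  rw [LinearMap.range_eq_top.2 h, finrank_top, e₂] at h₂
  rw [e₁] at h₁
  rw [e₃] at h₃
  omega

include hS in
lemma subsingleton_last (q : ℕ) (h : Function.Surjective (CohFinite.hhMap k S.f q))
    (h₁ : Subsingleton (Coh.HH X S.X₁ (q + 1))) : Subsingleton (Coh.HH X S.X₃ q) := by
  refine subsingleton_of_forall_eq 0 fun x => ?_
  obtain ⟨y, rfl⟩ := (CohFinite.δH_eq_zero_iff (CohFinite.shortExact_toAb hS) q x).1 (h₁.elim _ _)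
  exact (CohFinite.map_g_eq_zero_iff (CohFinite.shortExact_toAb hS) q y).2 (h y)

end LES

variable {k : Type u} [Field k]

lemma finrank_h0' (m : ℕ) (a : ℤ) (hm : 1 ≤ m) :
    Module.finrank k (Coh.HH (CohB1.ProjSpace m k) (Om k m a) 0) = Nat.choose (a + m).toNat m := by
  rcases le_or_gt 0 a with ha | ha
  · obtain ⟨j, rfl⟩ := Int.eq_ofNat_of_zero_le ha
    rw [finrank_h0, show ((j : ℤ) + m).toNat = m + j by omega, Nat.choose_symm_add]
  · haveI := ProjCech.twist_vanish (R := k) m a 0 (by omega) (by omega)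
    rw [Module.finrank_zero_of_subsingleton, Nat.choose_eq_zero_of_lt (by omega)]

lemma finrank_hn' (m : ℕ) (a : ℤ) (hm : 1 ≤ m) :
    Module.finrank k (Coh.HH (CohB1.ProjSpace m k) (Om k m a) m) = Nat.choose (-a - 1).toNat m := by
  rw [← finrank_h0_eq_hn k m a (-((m : ℤ) + 1) - a) (by ring), finrank_h0' m _ hm]
  congr 2
  omega

section Hyp

variable {m j : ℕ} (hm : 1 ≤ m) {I : (CohB1.ProjSpace m k).IdealSheafData}
  (e : ClSub.idealMod I ≅ Om k m (-(j : ℤ))) (n : ℤ)

variable (I) in
/-- The twisted sequence of the hypersurface. -/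
def hypSeq : ShortComplex (CohB1.ProjSpace m k).Modules :=
  ShortComplex.mk (CohFinite.tmap (idealSeq I).f (Om k m n)) (CohFinite.tmap (idealSeq I).g (Om k m n))
    (by rw [← CohFinite.tmap_comp, (idealSeq I).zero, CohFinite.tmap_zero])

lemma hypSeq_shortExact : (hypSeq I n).ShortExact :=
  CohFinite.shortExact_tmap (CohFinite.isInvertible_twist m k n) (idealSeq_shortExact I)

include e in
lemma nonempty_left :
    Nonempty ((hypSeq I n).X₁ ≅ Om k m (n - j)) := by
  obtain ⟨i⟩ := RegCx.twist_twist (k := k) (n := m) (-(j : ℤ)) n (n - j) (by ring)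
  exact ⟨PicGrp.tensorModIso e (Iso.refl _) ≪≫ i⟩

lemma nonempty_middle : Nonempty ((hypSeq I n).X₂ ≅ Om k m n) := ⟨TMul.leftUnitIso _⟩

include hm e in
lemma surjective_top : Function.Surjective (CohFinite.hhMap k (hypSeq I n).f m) := by
  refine Horrocks.hd_surjective_of_ne_zero hm (QC.isQCoh_idealMod I) (ClSub.idealModι I) (fun h => ?_) n
  have h1 : 𝟙 (ClSub.idealMod I) = 0 := (cancel_mono (ClSub.idealModι I)).1 (by rw [h, comp_zero, comp_zero])
  have h2 : 𝟙 (Om k m (-(j : ℤ))) = 0 := by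
    rw [← e.inv_hom_id, ← Category.id_comp e.hom, h1, zero_comp, comp_zero]
  obtain ⟨θ⟩ := exists_theta k m (-(j : ℤ)) j (by ring)
  have h4 : 𝟙 (CohB1.tensorMod (Om k m (-(j : ℤ))) (Om k m j)) = 0 := by
    rw [← CohFinite.tmap_id, h2, CohFinite.tmap_zero]
  haveI : Subsingleton (Coh.HH (CohB1.ProjSpace m k) (Coh.structureModule (CohB1.ProjSpace m k)) 0) := by
    refine CohQC.hh_subsingleton_of_iso θ 0 (subsingleton_of_forall_eq 0 fun x => ?_)
    rw [← CohFinite.hhMap_id k _ 0 x, h4]
    exact P1Split.hhMap_zero k _ _ 0 x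
  obtain ⟨o⟩ : Nonempty (Om k m 0 ≅ Coh.structureModule (CohB1.ProjSpace m k)) :=
    GrT.nonempty_twist_zero_iso (𝒜 := CohB1.polyGrading m k)
  have h5 := finrank_h0 k m 0
  rw [Nat.choose_zero_right, Nat.cast_zero, (CohFinite.hhEquiv k o 0).finrank_eq, Module.finrank_zero_of_subsingleton] at h5
  exact zero_ne_one h5

lemma finite_seq (q : ℕ) (hI : Coh.IsCoh (hypSeq I n).X₁) :
    Module.Finite k (Coh.HH (CohB1.ProjSpace m k) (hypSeq I n).X₃ q) := by
  have h2 : Coh.IsCoh (hypSeq I n).X₂ :=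
    CohFinite.isCoh_tensor ⟨QC.isQCoh_unit _, TMul.isFT_structureModule _⟩ (CohFinite.isInvertible_twist m k n)
  haveI := CohFinite.finite_projSpace m k _ h2 q
  haveI := CohFinite.finite_projSpace m k _ hI (q + 1)
  exact CohFinite.finite_of_shortExact k (hypSeq_shortExact n) q

end Hyp

end Groth.Agent.SerrePn
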