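import Groth.Agent.RefStalk.Open
import Groth.Agent.RefStalk.Coherent
import Groth.Agent.RPushQC.SectionsExact
import Groth.Agent.WeakAssLib.Stalk
import Groth.Agent.KFlat.SchemeStalk
import Groth.Agent.LocFree.Rank
import Groth.Agent.W7Baer.Local
import Groth.Prelude.Def_RefFun

/-!
The sheaf Hom into a fixed module, applied to a short exact sequence.
-/

set_option autoImplicit false
set_option linter.style.haveILetI false
set_option backward.isDefEq.respectTransparency false

universe u

open CategoryTheory CategoryTheory.Limits AlgebraicGeometry TopologicalSpace Opposite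
open Groth.Agent.QC (res res_res app_res)
open Groth.Agent.WeakAssLib (mgerm mgerm_smul mgerm_res stalkHom stalkHom_germ)

noncomputable section

namespace Groth.Agent.SerrePn

variable {X : Scheme.{u}}

lemma stalkHom_eq {F G : X.Modules} (φ : F ⟶ G) (x : X) (v : F.presheaf.stalk x) :
    RefHull.stalkMapₗ φ x v = stalkHom φ x v := rfl

/-- Precomposition, read on stalks. -/
lemma evalStalk_comap {F F' : X.Modules} (ψ : F' ⟶ F) (G : X.Modules) (x : X)
    (t : (RefHull.homSh F G).presheaf.stalk x) :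
    RefHull.evalStalk F' G x (stalkHom (RefFun.homComap ψ G) x t) =
      (RefHull.evalStalk F G x t).comp (RefHull.stalkMapₗ ψ x) := by
  obtain ⟨U, hx, g, rfl⟩ := TopCat.Presheaf.exists_germ_eq (RefHull.homSh F G).presheaf t
  rw [RefHull.evalStalk_germ]
  have e : stalkHom (RefFun.homComap ψ G) x ((RefHull.homSh F G).presheaf.germ U x hx g) =
      (RefHull.homSh F' G).presheaf.germ U x hx ((RefFun.homComap ψ G).app U g) := stalkHom_germ _ hx g
  rw [e, RefHull.evalStalk_germ]
  rfl

lemma stalk_surjective_of_epi {F G : X.Modules} (φ : F ⟶ G) [Epi φ] (x : X) :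
    Function.Surjective (RefHull.stalkMapₗ φ x) :=
  (ModuleCat.epi_iff_surjective _).1 (inferInstance : Epi ((DerSch.stalkFunctor X x).map φ))

/-- A morphism is epi when it is surjective on stalks. -/
lemma epi_of_stalk_surjective {F G : X.Modules} (φ : F ⟶ G)
    (h : ∀ x, Function.Surjective (RefHull.stalkMapₗ φ x)) : Epi φ := by
  refine Preadditive.epi_of_isZero_cokernel _ (W7Baer.isZero_of_stalks _ fun x => ?_)
  haveI : Epi ((DerSch.stalkFunctor X x).map φ) := (ModuleCat.epi_iff_surjective _).2 (h x)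
  exact (isZero_cokernel_of_epi ((DerSch.stalkFunctor X x).map φ)).of_iso
    (PreservesCokernel.iso (DerSch.stalkFunctor X x) φ)

/-- An exact sequence with an epimorphism at the end, checked on sections. -/
theorem shortExact_of_sections_of_epi (S : ShortComplex X.Modules) [Epi S.g]
    (hinj : ∀ U, Function.Injective (S.f.app U))
    (hex : ∀ U (x : Γ(S.X₂, U)), S.g.app U x = 0 → ∃ a, S.f.app U a = x) : S.ShortExact := by
  have hmono : Mono S.f := (QC.mono_iff_app_injective _).2 hinj
  let k := kernel.lift S.g S.f S.zero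
  have hk : ∀ U, Function.Bijective (k.app U) := fun U => by
    have e : ∀ a, (kernel.ι S.g).app U (k.app U a) = S.f.app U a := fun a =>
      ConcreteCategory.congr_hom (congrArg (fun ψ => Scheme.Modules.Hom.app ψ U) (kernel.lift_ι S.g S.f S.zero)) a
    refine ⟨fun a b h => hinj U (by rw [← e, ← e, h]), fun z => ?_⟩
    have hz : S.g.app U ((kernel.ι S.g).app U z) = 0 :=
      ConcreteCategory.congr_hom (congrArg (fun ψ => Scheme.Modules.Hom.app ψ U) (kernel.condition S.g)) z
    obtain ⟨a, ha⟩ := hex U _ hz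
    exact ⟨a, QC.app_injective_of_mono (kernel.ι S.g) U ((e a).trans ha)⟩
  have : IsIso k := Scheme.Modules.Hom.isIso_iff_isIso_app.2 fun U =>
    (ConcreteCategory.isIso_iff_bijective _).2 (hk U)
  exact { exact := S.exact_of_f_is_kernel (IsLimit.ofIsoLimit (kernelIsKernel S.g)
    (Fork.ext (asIso k).symm (by simp [k]))), mono_f := hmono, epi_g := inferInstance }

variable {S : ShortComplex X.Modules}

lemma homComap_zero (S : ShortComplex X.Modules) (G : X.Modules) :
    RefFun.homComap S.g G ≫ RefFun.homComap S.f G = 0 := by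
  apply Scheme.Modules.hom_ext
  intro U
  ext g
  refine Subtype.ext (funext fun x => LinearMap.ext fun v => ?_)
  have e : RefHull.stalkMapₗ S.g x.1 (RefHull.stalkMapₗ S.f x.1 v) = 0 := by
    obtain ⟨V, hV, s, rfl⟩ := TopCat.Presheaf.exists_germ_eq S.X₁.presheaf v
    rw [RefHull.stalkMapₗ_germ, RefHull.stalkMapₗ_germ]
    exact (congrArg (mgerm S.X₃ hV) (ConcreteCategory.congr_hom
      (congrArg (fun φ => Scheme.Modules.Hom.app φ V) S.zero) s)).trans (map_zero _)
  show g.1 x (RefHull.stalkMapₗ S.g x.1 (RefHull.stalkMapₗ S.f x.1 v)) = 0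
  exact (congrArg (g.1 x) e).trans (map_zero _)

/-- The short complex of sheaf Homs. -/
def homSeq (S : ShortComplex X.Modules) (G : X.Modules) : ShortComplex X.Modules :=
  ShortComplex.mk (RefFun.homComap S.g G) (RefFun.homComap S.f G) (homComap_zero S G)

theorem shortExact_homSeq (hS : S.ShortExact) (G : X.Modules) [Epi (RefFun.homComap S.f G)] :
    (homSeq S G).ShortExact := by
  haveI := hS.epi_g
  haveI : Epi (homSeq S G).g := ‹Epi (RefFun.homComap S.f G)›
  refine shortExact_of_sections_of_epi _ (fun U a b h => ?_) fun U g hg => ?_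
  · refine Subtype.ext (funext fun x => LinearMap.ext fun w => ?_)
    obtain ⟨v, rfl⟩ := stalk_surjective_of_epi S.g x.1 w
    exact LinearMap.congr_fun (congrFun (congrArg Subtype.val h) x) v
  · change Γ(RefHull.homSh S.X₂ G, U) at g
    have hkill : ∀ x : U, LinearMap.ker (RefHull.stalkMapₗ S.g x.1) ≤ LinearMap.ker (g.1 x) := fun x v hv => by
      obtain ⟨v₁, rfl⟩ := WeakAssLib.stalk_exact S hS x.1 v hv
      exact LinearMap.congr_fun (congrFun (congrArg Subtype.val hg) x) v₁
    let q : ∀ x : U, _ := fun x : U => LinearMap.quotKerEquivOfSurjective _ (stalk_surjective_of_epi S.g x.1)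
    let f : ∀ x : U, RefHull.StalkHom S.X₃ G x.1 := fun x =>
      ((LinearMap.ker (RefHull.stalkMapₗ S.g x.1)).liftQ (g.1 x) (hkill x)).comp (q x).symm.toLinearMap
    have hf : ∀ (x : U) (v : S.X₂.presheaf.stalk x.1), f x (RefHull.stalkMapₗ S.g x.1 v) = g.1 x v := fun x v => by
      have e : (q x).symm (RefHull.stalkMapₗ S.g x.1 v) = Submodule.Quotient.mk v :=
        (q x).injective ((q x).apply_symm_apply _ |>.trans
          (LinearMap.quotKerEquivOfSurjective_apply_mk _ _ v).symm)
      show Submodule.liftQ _ (g.1 x) (hkill x) ((q x).symm _) = _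
      rw [e]
      exact Submodule.liftQ_apply _ (g.1 x) v
    have hl : RefHull.IsLocSect S.X₃ G f := fun V i m y => by
      obtain ⟨v, hv⟩ := stalk_surjective_of_epi S.g y.1 (mgerm S.X₃ y.2 m)
      obtain ⟨W₁, hy₁, n', rfl⟩ := TopCat.Presheaf.exists_germ_eq S.X₂.presheaf v
      rw [RefHull.stalkMapₗ_germ] at hv
      obtain ⟨W₂, hy₂, i₁, i₂, hW₂⟩ := TopCat.Presheaf.germ_eq S.X₃.presheaf y.1 hy₁ y.2 _ _ hv
      obtain ⟨W, hW, j, n, hn⟩ := RefHull.isLocSect_of_mem g W₂ (homOfLE (i₂.le.trans i.le))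
        (res S.X₂ i₁.le n') ⟨y.1, hy₂⟩
      refine ⟨W, hW, homOfLE (j.le.trans i₂.le), n, fun z => ?_⟩
      refine Eq.trans ?_ (hn z)
      show f ⟨z.1, _⟩ (mgerm S.X₃ _ m) = _
      have hz₂ : z.1 ∈ W₂ := j.le z.2
      have e1 : mgerm S.X₃ (i₂.le hz₂) m = mgerm S.X₃ hz₂ (res S.X₃ i₁.le (S.g.app W₁ n')) :=
        ((mgerm_res S.X₃ i₂.le hz₂ m).symm).trans (congrArg (mgerm S.X₃ hz₂) hW₂.symm)
      rw [e1, app_res S.g]
      refine Eq.trans (congrArg _ (RefHull.stalkMapₗ_germ S.g z.1 hz₂ (res S.X₂ i₁.le n')).symm) ?_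
      exact hf _ _
    refine ⟨⟨f, hl⟩, Subtype.ext (funext fun x => LinearMap.ext fun v => ?_)⟩
    exact hf x v

/-- The sheaf Hom sequence surjects at the end when it does so on stalks. -/
lemma surjective_homComap_stalk [IsLocallyNoetherian X] {F F' : X.Modules} (hF : CohB1.IsFP F) (hF' : CohB1.IsFP F')
    (ψ : F' ⟶ F) (G : X.Modules) (x : X)
    (h : ∀ b : RefHull.StalkHom F' G x, ∃ a : RefHull.StalkHom F G x, a.comp (RefHull.stalkMapₗ ψ x) = b) :
    Function.Surjective (RefHull.stalkMapₗ (RefFun.homComap ψ G) x) := fun t => by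
  obtain ⟨a, ha⟩ := h (RefHull.evalStalk F' G x t)
  obtain ⟨s, rfl⟩ := (RefStalk.evalStalk_bijective hF x).2 a
  exact ⟨s, (RefStalk.evalStalk_bijective hF' x).1 ((evalStalk_comap ψ G x s).trans ha)⟩

end Groth.Agent.SerrePn
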