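import Groth.Agent.SerrePn.HomExact
import Groth.Agent.SerrePn.HomTwist
import Groth.Agent.SerrePn.ClosedTwist
import Groth.Agent.SerrePn.ExtDual
import Groth.Agent.SerrePn.Perfect
import Groth.Agent.Horrocks.Main
import Groth.Agent.Horrocks.Bundles
import Groth.Agent.HorrocksPn.Main
import Groth.Agent.ResDesc.Main
import Mathlib.Algebra.Homology.DerivedCategory.Ext.EnoughProjectives

/-!
Cohomology of very negative twists against the local `Ext` modules into the structure sheaf.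
-/

set_option autoImplicit false
set_option linter.style.haveILetI false
set_option backward.isDefEq.respectTransparency false
set_option backward.isDefEq.respectTransparency.types false

universe u

open CategoryTheory CategoryTheory.Limits AlgebraicGeometry TopologicalSpace Opposite Abelian
open Groth.Agent.WeakAssLib (mgerm stalkHom)

noncomputable section

namespace Groth.Agent.SerrePn

section Cat

universe w v v'

variable {C : Type v} [Category.{v'} C] [Abelian C] [HasExt.{w} C] {S : ShortComplex C}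

lemma ext_succ_iff (hS : S.ShortExact) [Projective S.X₂] (Y : C) (j : ℕ) :
    Subsingleton (Ext S.X₃ Y (j + 1 + 1)) ↔ Subsingleton (Ext S.X₁ Y (j + 1)) := by
  constructor
  · intro h
    refine subsingleton_of_forall_eq 0 fun x => ?_
    obtain ⟨y, rfl⟩ := Ext.contravariant_sequence_exact₁ hS Y x (Nat.add_comm 1 (j + 1)) (h.elim _ _)
    rw [Ext.eq_zero_of_projective y, Ext.comp_zero]
  · intro h
    refine subsingleton_of_forall_eq 0 fun x => ?_
    obtain ⟨y, rfl⟩ := Ext.contravariant_sequence_exact₃ hS Y x (Ext.eq_zero_of_projective _) (Nat.add_comm 1 (j + 1))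
    rw [h.elim y 0, Ext.comp_zero]

lemma ext_one_iff (hS : S.ShortExact) [Projective S.X₂] (Y : C) :
    Subsingleton (Ext S.X₃ Y 1) ↔ ∀ φ : S.X₁ ⟶ Y, ∃ ψ, S.f ≫ ψ = φ := by
  constructor
  · intro h φ
    obtain ⟨y, hy⟩ := Ext.contravariant_sequence_exact₁ hS Y (Ext.mk₀ φ) (add_zero 1) (h.elim _ _)
    obtain ⟨ψ, rfl⟩ := (Ext.mk₀_bijective _ _).2 y
    rw [Ext.mk₀_comp_mk₀] at hy
    exact ⟨ψ, (Ext.mk₀_bijective _ _).1 hy⟩
  · intro h
    refine subsingleton_of_forall_eq 0 fun x => ?_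
    obtain ⟨y, rfl⟩ := Ext.contravariant_sequence_exact₃ hS Y x (Ext.eq_zero_of_projective _) (add_zero 1)
    obtain ⟨φ, rfl⟩ := (Ext.mk₀_bijective _ _).2 y
    obtain ⟨ψ, rfl⟩ := h φ
    rw [← Ext.mk₀_comp_mk₀, ← Ext.comp_assoc hS.extClass (Ext.mk₀ S.f) (Ext.mk₀ ψ) (add_zero 1) (zero_add 0) (by omega),
      hS.extClass_comp, Ext.zero_comp]

end Cat

section Sections

variable {X : Scheme.{u}} {F G : X.Modules}

lemma stalkMapₗ_zero (x : X) : RefHull.stalkMapₗ (0 : F ⟶ G) x = 0 := by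
  refine LinearMap.ext fun v => ?_
  obtain ⟨U, hU, s, rfl⟩ := TopCat.Presheaf.exists_germ_eq F.presheaf v
  rw [RefHull.stalkMapₗ_germ]
  exact map_zero _

lemma hom_ext_stalk {φ ψ : F ⟶ G} (h : ∀ x, RefHull.stalkMapₗ φ x = RefHull.stalkMapₗ ψ x) : φ = ψ := by
  refine Scheme.Modules.hom_ext _ _ fun U => ?_
  ext s
  refine RefStalk.germ_ext fun y hy => ?_
  exact (RefHull.stalkMapₗ_germ φ y hy s).symm.trans
    ((LinearMap.congr_fun (h y) _).trans (RefHull.stalkMapₗ_germ ψ y hy s))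

end Sections

variable {k : Type u} [Field k] {n : ℕ}

/-- Vanishing of `H^i` in very negative twists. -/
def Van (F : (CohB1.ProjSpace n k).Modules) (i : ℕ) : Prop :=
  ∃ m₀ : ℤ, ∀ m : ℤ, m₀ ≤ m →
    Subsingleton (Coh.HH (CohB1.ProjSpace n k) (Twist.twistBy (CohB1.polyGrading n k) F (-m)) i)

/-- Vanishing of the local `Ext` into the structure sheaf. -/
abbrev ExtVan (F : (CohB1.ProjSpace n k).Modules) (j : ℕ) (x : CohB1.ProjSpace n k) : Prop :=
  Subsingleton (Ext (ModuleCat.of ((CohB1.ProjSpace n k).presheaf.stalk x) (F.presheaf.stalk x))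
    (ModuleCat.of ((CohB1.ProjSpace n k).presheaf.stalk x) ((CohB1.ProjSpace n k).presheaf.stalk x)) j)

lemma exists_adj (m : ℤ) :
    ∃ e : ∀ M : (CohB1.ProjSpace n k).Modules, (CohB1.tensorMod M (Om k n (-m)) ⟶ om k n) ≃
        (M ⟶ Om k n (-((n : ℤ) + 1) + m)),
      ∀ (M N : (CohB1.ProjSpace n k).Modules) (f : M ⟶ N) (φ : CohB1.tensorMod N (Om k n (-m)) ⟶ om k n),
        e M (CohFinite.tmap f (Om k n (-m)) ≫ φ) = f ≫ e N φ := by
  obtain ⟨θ⟩ := exists_theta k n (-m) m (by ring)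
  obtain ⟨θ'⟩ := exists_theta k n m (-m) (by ring)
  obtain ⟨i⟩ := RegCx.twist_twist (k := k) (n := n) (-((n : ℤ) + 1)) m _ rfl
  let A := (tensEquiv θ θ').toAdjunction
  refine ⟨fun M => (A.homEquiv M (om k n)).trans (i.homToEquiv), fun M N f φ => ?_⟩
  show A.homEquiv M (om k n) ((tens (Om k n (-m))).map f ≫ φ) ≫ i.hom = f ≫ A.homEquiv N (om k n) φ ≫ i.hom
  erw [A.homEquiv_naturality_left]
  rw [Category.assoc]

lemma nonempty_homOm (F : (CohB1.ProjSpace n k).Modules) (m : ℤ) :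
    Nonempty (RefHull.homSh F (Om k n (-((n : ℤ) + 1) + m)) ≅
      CohB1.tensorMod (RefHull.homSh F (om k n)) (Om k n m)) := by
  obtain ⟨θ⟩ := exists_theta k n m (-m) (by ring)
  obtain ⟨θ'⟩ := exists_theta k n (-m) m (by ring)
  obtain ⟨i⟩ := RegCx.twist_twist (k := k) (n := n) (-((n : ℤ) + 1)) m _ rfl
  obtain ⟨e⟩ := nonempty_homTwist θ θ' F (om k n)
  exact ⟨((RefFun.homFunctor F).mapIso i.symm) ≪≫ e⟩

lemma isFP_of_isCoh {F : (CohB1.ProjSpace n k).Modules} (hF : Coh.IsCoh F) : CohB1.IsFP F := by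
  haveI := CohFinite.isNoetherian_projSpace n k
  haveI := hF.1
  exact QC.isFP_of_isQCoh_of_isFT hF.2

/-- A coherent module with zero stalks at the closed points is zero. -/
lemma subsingleton_stalk_of_closed {E : (CohB1.ProjSpace n k).Modules} (hE : Coh.IsCoh E)
    (h : ∀ x : CohB1.ProjSpace n k, IsClosed ({x} : Set (CohB1.ProjSpace n k)) → Subsingleton (E.presheaf.stalk x))
    (x : CohB1.ProjSpace n k) : Subsingleton (E.presheaf.stalk x) := by
  haveI := CohFinite.isNoetherian_projSpace n k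
  have hb := RefStalk.isIso_of_closedPoints (0 : E ⟶ E) (isFP_of_isCoh hE) (isFP_of_isCoh hE)
    (fun Z hZ hne => by
      obtain ⟨y, hy, hy'⟩ := IsClosed.exists_closed_singleton hZ hne
      exact ⟨y, hy, hy'⟩)
    (fun y hy => by haveI := h y hy; exact ⟨Function.injective_of_subsingleton _, fun v => ⟨v, Subsingleton.elim _ _⟩⟩) x
  rw [stalkMapₗ_zero] at hb
  exact ⟨fun a b => hb.1 rfl⟩

variable (F : (CohB1.ProjSpace n k).Modules)

/-- A module whose stalks are those of the structure sheaf. -/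
def IsLine (G : (CohB1.ProjSpace n k).Modules) : Prop :=
  Coh.IsCoh G ∧ ∀ x, Nonempty ((CohB1.ProjSpace n k).presheaf.stalk x ≃ₗ[(CohB1.ProjSpace n k).presheaf.stalk x]
    G.presheaf.stalk x)

lemma isLine_twist (a : ℤ) : IsLine (Om k n a) :=
  ⟨CohFinite.isCoh_twist n k a, fun x => Horrocks.nonempty_stalk_twist a x⟩

variable {G : (CohB1.ProjSpace n k).Modules}

lemma extVan_zero_iff (hG : IsLine G) (x : CohB1.ProjSpace n k) :
    ExtVan F 0 x ↔ ∀ f : RefHull.StalkHom F G x, f = 0 := by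
  obtain ⟨u⟩ := hG.2 x
  rw [ExtVan, (Ext.addEquiv₀ (X := ModuleCat.of _ (F.presheaf.stalk x))).toEquiv.subsingleton_congr]
  refine ⟨fun h f => ?_, fun h => ⟨fun a b => ModuleCat.hom_ext (LinearMap.ext fun v => u.injective ?_)⟩⟩
  · refine LinearMap.ext fun v => u.symm.injective ?_
    rw [LinearMap.zero_apply, map_zero]
    exact LinearMap.congr_fun (congrArg ModuleCat.Hom.hom (h.elim (ModuleCat.ofHom (u.symm.toLinearMap ∘ₗ f)) 0)) v
  · exact (LinearMap.congr_fun (h (u.toLinearMap ∘ₗ a.hom)) v).trans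
      (LinearMap.congr_fun (h (u.toLinearMap ∘ₗ b.hom)) v).symm

lemma eq_zero_of_extVan_zero (hG : IsLine G) (hF : Coh.IsCoh F)
    (h : ∀ x : CohB1.ProjSpace n k, IsClosed ({x} : Set (CohB1.ProjSpace n k)) → ExtVan F 0 x)
    (φ : F ⟶ G) : φ = 0 := by
  haveI := CohFinite.isNoetherian_projSpace n k
  refine hom_ext_stalk fun x => ?_
  have hs := subsingleton_stalk_of_closed (RefStalk.isCoh_homSh hF hG.1)
    (fun y hy => ⟨fun s t => (RefStalk.evalStalk_bijective (isFP_of_isCoh hF) y).1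
      (((extVan_zero_iff F hG y).1 (h y hy) _).trans ((extVan_zero_iff F hG y).1 (h y hy) _).symm)⟩) x
  rw [stalkMapₗ_zero]
  have e := RefHull.evalStalk_germ F G x (show x ∈ (⊤ : (CohB1.ProjSpace n k).Opens) from trivial) (RefHull.ofHom φ ⊤)
  rw [hs.elim ((RefHull.homSh F G).presheaf.germ ⊤ x trivial (RefHull.ofHom φ ⊤)) 0, map_zero] at e
  exact e.symm

lemma extVan_zero_of_gen (hG : IsLine G) (hF : Coh.IsCoh F) (hgen : Horrocks.IsGen₀ (RefHull.homSh F G))
    (hz : ∀ φ : F ⟶ G, φ = 0) (x : CohB1.ProjSpace n k) : ExtVan F 0 x := by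
  haveI := CohFinite.isNoetherian_projSpace n k
  rw [extVan_zero_iff F hG x]
  intro f
  obtain ⟨t, rfl⟩ := (RefStalk.evalStalk_bijective (G := G) (isFP_of_isCoh hF) x).2 f
  have ht : t ∈ Horrocks.genSub (RefHull.homSh F G) x := (hgen x).ge trivial
  have hbot : Horrocks.genSub (RefHull.homSh F G) x = ⊥ := Submodule.span_eq_bot.2 (by
    rintro _ ⟨g, rfl⟩
    obtain ⟨ψ, hψ⟩ := RefStalk.exists_hom g
    refine (RefStalk.evalStalk_bijective (isFP_of_isCoh hF) x).1 ?_
    rw [map_zero]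
    refine (RefHull.evalStalk_germ F _ (U := (⊤ : (CohB1.ProjSpace n k).Opens)) x trivial g).trans ?_
    rw [← hψ x, hz ψ, stalkMapₗ_zero])
  rw [hbot, Submodule.mem_bot] at ht
  rw [ht, map_zero]

lemma subsingleton_top_iff (hF : Coh.IsCoh F) (m : ℤ) :
    Subsingleton (Coh.HH (CohB1.ProjSpace n k) (Twist.twistBy (CohB1.polyGrading n k) F (-m)) n) ↔
      ∀ φ : F ⟶ Om k n (-((n : ℤ) + 1) + m), φ = 0 := by
  obtain ⟨e, -⟩ := exists_adj (k := k) (n := n) m
  have h := pairEquiv (CohB1.tensorMod F (Om k n (-m))) (Horrocks.isCoh_tw hF (-m))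
  show Subsingleton (Coh.HH (CohB1.ProjSpace n k) (CohB1.tensorMod F (Om k n (-m))) n) ↔ _
  rw [← Module.subsingleton_dual_iff (K := k), ← h.toEquiv.subsingleton_congr, (e F).subsingleton_congr]
  exact ⟨fun h φ => h.elim _ _, fun h => ⟨fun a b => (h a).trans (h b).symm⟩⟩

theorem extVan_zero_of_van (hF : Coh.IsCoh F) (h : Van F n) (x : CohB1.ProjSpace n k) : ExtVan F 0 x := by
  haveI := CohFinite.isNoetherian_projSpace n k
  obtain ⟨m₀, hm₀⟩ := h
  obtain ⟨N, hN⟩ := Horrocks.exists_gen_large (RefHull.homSh F (om k n))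
    (RefStalk.isCoh_homSh hF (CohFinite.isCoh_twist n k _))
  obtain ⟨M, hM₁, hM₂⟩ : ∃ M : ℕ, N ≤ M ∧ m₀ ≤ (M : ℤ) := ⟨max N m₀.toNat, le_max_left _ _, by omega⟩
  obtain ⟨i⟩ := nonempty_homOm F (M : ℤ)
  exact extVan_zero_of_gen F (isLine_twist _) hF ((hN M hM₁).of_epi i.inv)
    ((subsingleton_top_iff F hF M).1 (hm₀ M hM₂)) x

theorem van_of_extVan_zero (hF : Coh.IsCoh F)
    (h : ∀ x : CohB1.ProjSpace n k, IsClosed ({x} : Set (CohB1.ProjSpace n k)) → ExtVan F 0 x) : Van F n :=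
  ⟨0, fun m _ => (subsingleton_top_iff F hF m).2 (eq_zero_of_extVan_zero F (isLine_twist _) hF h)⟩

end Groth.Agent.SerrePn
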