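import Groth.Agent.SerrePn.ExtVanish
import Groth.Agent.LocH.WeakDuality

/-!
Local duality as vanishing: `H^i_m(N) = 0` iff `Ext^(d-i)(N, A) = 0`.
-/

set_option autoImplicit false
set_option linter.style.haveILetI false

universe u

open CategoryTheory CategoryTheory.Abelian IsLocalRing

noncomputable section

namespace Groth.Agent.SerrePn

theorem localVanish (A : Type u) [CommRing A] [LocCoh.IsGorensteinLocalRing A] {d : ℕ}
    (hd : ringKrullDim A = d) (j : ℕ) : ∀ (N : Type u) [AddCommGroup N] [Module A N] [Module.Finite A N] (i : ℕ),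
      i + j = d → (Subsingleton (LocCoh.H (maximalIdeal A) i N) ↔
        Subsingleton (Ext (ModuleCat.of A N) (ModuleCat.of A A) j)) := by
  induction j with
  | zero =>
    intro N _ _ _ i hi
    obtain rfl : i = d := hi
    rw [LocH.WeakDuality.subsingleton_top_iff hd N,
      (Ext.addEquiv₀ (X := ModuleCat.of A N) (Y := ModuleCat.of A A)).toEquiv.subsingleton_congr]
    exact ⟨fun h => ⟨fun a b => ModuleCat.hom_ext (h.elim _ _)⟩,
      fun h => ⟨fun a b => congrArg ModuleCat.Hom.hom (h.elim (ModuleCat.ofHom a) (ModuleCat.ofHom b))⟩⟩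
  | succ j ih =>
    intro N _ _ _ i hi
    obtain ⟨n, f, hf⟩ := Module.Finite.exists_fin' A N
    let X : ShortComplex (ModuleCat.{u} A) := ShortComplex.mk (X₁ := ModuleCat.of A (LinearMap.ker f))
      (X₂ := ModuleCat.of A (Fin n → A)) (X₃ := ModuleCat.of A N)
      (ModuleCat.ofHom (LinearMap.ker f).subtype) (ModuleCat.ofHom f) (by ext x; exact x.2)
    have hX : X.ShortExact :=
      { exact := (ShortComplex.ShortExact.moduleCat_exact_iff_function_exact X).2 (LinearMap.exact_subtype_ker_map f)
        mono_f := (ModuleCat.mono_iff_injective _).2 (LinearMap.ker f).injective_subtype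
        epi_g := (ModuleCat.epi_iff_surjective _).2 hf }
    haveI : Module.Free A X.X₂ := inferInstanceAs (Module.Free A (Fin n → A))
    haveI : Module.Finite A X.X₂ := inferInstanceAs (Module.Finite A (Fin n → A))
    haveI : Module.Finite A X.X₁ := inferInstanceAs (Module.Finite A (LinearMap.ker f))
    haveI : Module.Finite A X.X₃ := inferInstanceAs (Module.Finite A N)
    haveI : Projective X.X₂ := (IsProjective.iff_projective (Fin n → A)).mp inferInstance
    rcases j with _ | j
    · show Subsingleton ↑((localCohomology (maximalIdeal A) i).obj X.X₃) ↔ Subsingleton (Ext X.X₃ (ModuleCat.of A A) 1)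
      rw [LocH.WeakDuality.subsingleton_pred_iff hX (e := i) (by rw [hd, ← hi]), ext_one_iff hX]
      refine ⟨fun h φ => ?_, fun h φ => ?_⟩
      · obtain ⟨ψ, hψ⟩ := h φ.hom
        exact ⟨ModuleCat.ofHom ψ, ModuleCat.hom_ext hψ⟩
      · obtain ⟨ψ, hψ⟩ := h (ModuleCat.ofHom φ)
        exact ⟨ψ.hom, congrArg ModuleCat.Hom.hom hψ⟩
    · show Subsingleton ↑((localCohomology (maximalIdeal A) i).obj X.X₃) ↔
        Subsingleton (Ext X.X₃ (ModuleCat.of A A) (j + 1 + 1))
      rw [LocH.WeakDuality.subsingleton_succ_iff hX hd (by omega), ext_succ_iff hX]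
      exact ih (LinearMap.ker f) (i + 1) (by omega)

end Groth.Agent.SerrePn
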