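import Groth.Agent.SerrePn.ExtMain
import Groth.Agent.SerrePn.LocalExt
import Groth.Agent.SerrePn.Local
import Groth.Agent.RegDual.Scheme
import Groth.Agent.LocH.Grothendieck

/-!
Serre's criterion in terms of local cohomology and depth.
-/

set_option autoImplicit false
set_option linter.style.haveILetI false
set_option backward.isDefEq.respectTransparency false

universe u

open CategoryTheory AlgebraicGeometry IsLocalRing

noncomputable section

namespace Groth.Agent.SerrePn

variable {k : Type u} [Field k] {n : ℕ}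

theorem van_iff_local (F : (CohB1.ProjSpace n k).Modules) (hF : Coh.IsCoh F) (i : ℕ) :
    Van F i ↔ ∀ x : CohB1.ProjSpace n k, IsClosed ({x} : Set (CohB1.ProjSpace n k)) →
      Subsingleton (LocCoh.H (maximalIdeal ((CohB1.ProjSpace n k).presheaf.stalk x)) i (F.presheaf.stalk x)) := by
  haveI := CohFinite.isNoetherian_projSpace n k
  haveI : ∀ x, Module.Finite ((CohB1.ProjSpace n k).presheaf.stalk x) (F.presheaf.stalk x) :=
    fun x => RegDual.finite_stalk hF x
  rcases Nat.lt_or_ge n i with hi | hi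
  · refine ⟨fun _ x hx => ?_, fun _ => ⟨0, fun m _ => RegCx.hh_above F hF.1 _ i hi⟩⟩
    haveI := isRegularLocalRing_stalk k n x
    refine LocH.subsingleton_of_supportDim_lt _ i _ (lt_of_le_of_lt (Module.supportDim_le_ringKrullDim _ _) ?_)
    rw [ringKrullDim_stalk k n x hx]
    exact_mod_cast hi
  · have h := van_extVan (n - i) F hF i (Nat.add_sub_cancel' hi)
    refine ⟨fun hv x hx => ?_, fun hl => h.2 fun x hx => ?_⟩
    · haveI := isRegularLocalRing_stalk k n x
      exact (localVanish _ (ringKrullDim_stalk k n x hx) (n - i) _ i (Nat.add_sub_cancel' hi)).2 (h.1 hv x)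
    · haveI := isRegularLocalRing_stalk k n x
      exact (localVanish _ (ringKrullDim_stalk k n x hx) (n - i) _ i (Nat.add_sub_cancel' hi)).1 (hl x hx)

theorem van_upto_iff (F : (CohB1.ProjSpace n k).Modules) (hF : Coh.IsCoh F) (q : ℕ) :
    (∀ i, i < q → Van F i) ↔ ∀ x : CohB1.ProjSpace n k, IsClosed ({x} : Set (CohB1.ProjSpace n k)) →
      (q : ℕ∞) ≤ LocCoh.depth ((CohB1.ProjSpace n k).presheaf.stalk x) (F.presheaf.stalk x) := by
  haveI := CohFinite.isNoetherian_projSpace n k
  haveI : ∀ x, Module.Finite ((CohB1.ProjSpace n k).presheaf.stalk x) (F.presheaf.stalk x) :=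
    fun x => RegDual.finite_stalk hF x
  refine ⟨fun h x hx => ?_, fun h i hi => (van_iff_local F hF i).2 fun x hx => ?_⟩
  · haveI := isRegularLocalRing_stalk k n x
    exact (LocH.le_idealDepth_iff _ _ q).2 fun i hi => (van_iff_local F hF i).1 (h i hi) x hx
  · haveI := isRegularLocalRing_stalk k n x
    exact (LocH.le_idealDepth_iff _ _ q).1 (h x hx) i hi

theorem exists_uniform {F : (CohB1.ProjSpace n k).Modules} {q : ℕ} (h : ∀ i, i < q → Van F i) :
    ∃ m₀ : ℤ, ∀ m : ℤ, m₀ ≤ m → ∀ i, i < q →
      Subsingleton (Coh.HH (CohB1.ProjSpace n k) (Twist.twistBy (CohB1.polyGrading n k) F (-m)) i) := by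
  induction q with
  | zero => exact ⟨0, fun _ _ i hi => absurd hi (Nat.not_lt_zero i)⟩
  | succ q ih =>
    obtain ⟨a, ha⟩ := ih fun i hi => h i (by omega)
    obtain ⟨b, hb⟩ := h q (Nat.lt_succ_self q)
    refine ⟨max a b, fun m hm i hi => ?_⟩
    rcases Nat.lt_succ_iff_lt_or_eq.1 hi with h' | rfl
    exacts [ha m (le_trans (le_max_left _ _) hm) i h', hb m (le_trans (le_max_right _ _) hm)]

end Groth.Agent.SerrePn
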