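import Groth.Agent.SerrePn.ExtVanish
import Groth.Agent.SerrePn.Twists

/-!
Cohomology of very negative twists against the local `Ext` modules: the equivalence in all degrees.
-/

set_option autoImplicit false
set_option linter.style.haveILetI false
set_option backward.isDefEq.respectTransparency false
set_option backward.isDefEq.respectTransparency.types false

universe u

open CategoryTheory CategoryTheory.Limits AlgebraicGeometry TopologicalSpace Opposite Abelian
open Groth.Agent.WeakAssLib (mgerm stalkHom)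

noncomputable section

namespace Groth.Agent.SerrePn

attribute [local instance] Abelian.hasFiniteBiproducts

variable {k : Type u} [Field k] {n : ℕ}

/-- The stalks of a short exact sequence. -/
abbrev stalkSeq (S : ShortComplex (CohB1.ProjSpace n k).Modules) (x : CohB1.ProjSpace n k) :=
  S.map (DerSch.stalkFunctor (CohB1.ProjSpace n k) x)

variable {S : ShortComplex (CohB1.ProjSpace n k).Modules} {G : (CohB1.ProjSpace n k).Modules}

lemma extVan_one_iff (hS : S.ShortExact) (hG : IsLine G) (x : CohB1.ProjSpace n k)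
    (hP : Module.Projective ((CohB1.ProjSpace n k).presheaf.stalk x) (S.X₂.presheaf.stalk x)) :
    ExtVan S.X₃ 1 x ↔
      ∀ b : RefHull.StalkHom S.X₁ G x, ∃ a : RefHull.StalkHom S.X₂ G x, a.comp (RefHull.stalkMapₗ S.f x) = b := by
  obtain ⟨u⟩ := hG.2 x
  have hT : (stalkSeq S x).ShortExact := hS.map_of_exact _
  haveI : Projective (stalkSeq S x).X₂ := (IsProjective.iff_projective (S.X₂.presheaf.stalk x)).mp hP
  refine (ext_one_iff hT (ModuleCat.of _ ((CohB1.ProjSpace n k).presheaf.stalk x))).trans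
    ⟨fun h b => ?_, fun h φ => ?_⟩
  · obtain ⟨ψ, hψ⟩ := h (ModuleCat.ofHom (u.symm.toLinearMap ∘ₗ b))
    refine ⟨u.toLinearMap ∘ₗ ψ.hom, LinearMap.ext fun v => u.symm.injective ?_⟩
    exact (u.symm_apply_apply _).trans (LinearMap.congr_fun (congrArg ModuleCat.Hom.hom hψ) v)
  · obtain ⟨a, ha⟩ := h (u.toLinearMap ∘ₗ φ.hom)
    refine ⟨ModuleCat.ofHom (u.symm.toLinearMap ∘ₗ a), ModuleCat.hom_ext (LinearMap.ext fun v => u.injective ?_)⟩
    exact (u.apply_symm_apply _).trans (LinearMap.congr_fun ha v)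

theorem extVan_one_of_gen (hS : S.ShortExact) (hG : IsLine G) (h₁ : Coh.IsCoh S.X₁)
    (hgen : Horrocks.IsGen₀ (RefHull.homSh S.X₁ G)) (hext : ∀ φ : S.X₁ ⟶ G, ∃ ψ, S.f ≫ ψ = φ)
    (x : CohB1.ProjSpace n k) (hP : Module.Projective ((CohB1.ProjSpace n k).presheaf.stalk x) (S.X₂.presheaf.stalk x)) :
    ExtVan S.X₃ 1 x := by
  haveI := CohFinite.isNoetherian_projSpace n k
  rw [extVan_one_iff hS hG x hP]
  let R := (CohB1.ProjSpace n k).presheaf.stalk x
  let pre : RefHull.StalkHom S.X₂ G x →ₗ[R] RefHull.StalkHom S.X₁ G x :=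
    LinearMap.lcomp R _ (RefHull.stalkMapₗ S.f x)
  have hle : Horrocks.genSub (RefHull.homSh S.X₁ G) x ≤
      (LinearMap.range pre).comap (RefHull.evalStalk S.X₁ G x) := Submodule.span_le.2 (by
    rintro _ ⟨g, rfl⟩
    obtain ⟨φ, hφ⟩ := RefStalk.exists_hom g
    obtain ⟨ψ, rfl⟩ := hext φ
    refine ⟨RefHull.stalkMapₗ ψ x, Eq.trans ?_
      (RefHull.evalStalk_germ S.X₁ G (U := (⊤ : (CohB1.ProjSpace n k).Opens)) x trivial g).symm⟩
    rw [← hφ x, RefFun.stalkMapₗ_comp]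
    rfl)
  intro b
  obtain ⟨t, rfl⟩ := (RefStalk.evalStalk_bijective (G := G) (isFP_of_isCoh h₁) x).2 b
  exact hle ((hgen x).ge trivial)

theorem exists_extension (hS : S.ShortExact) (hG : IsLine G) (h₁ : Coh.IsCoh S.X₁) (h₂ : Coh.IsCoh S.X₂)
    (hP : ∀ x, Module.Projective ((CohB1.ProjSpace n k).presheaf.stalk x) (S.X₂.presheaf.stalk x))
    (h : ∀ x : CohB1.ProjSpace n k, IsClosed ({x} : Set (CohB1.ProjSpace n k)) → ExtVan S.X₃ 1 x)
    (hH : Subsingleton (Coh.HH (CohB1.ProjSpace n k) (RefHull.homSh S.X₃ G) 1)) (φ : S.X₁ ⟶ G) :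
    ∃ ψ, S.f ≫ ψ = φ := by
  haveI := CohFinite.isNoetherian_projSpace n k
  let c : RefHull.homSh S.X₂ G ⟶ RefHull.homSh S.X₁ G := RefFun.homComap S.f G
  let E : (CohB1.ProjSpace n k).Modules := cokernel c
  have hE : Coh.IsCoh E := Groth.Agent.QC.isCoh_of_epi (RefStalk.isCoh_homSh h₁ hG.1)
    (Groth.Agent.QC.isQCoh_cokernel (RefStalk.isCoh_homSh h₂ hG.1).1 (RefStalk.isCoh_homSh h₁ hG.1).1 c) (cokernel.π c)
  have hz : ∀ x, Subsingleton (E.presheaf.stalk x) := subsingleton_stalk_of_closed hE fun x hx => by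
    refine ⟨fun a b => ?_⟩
    suffices ∀ v, v = (0 : E.presheaf.stalk x) by rw [this a, this b]
    intro v
    obtain ⟨t, rfl⟩ := stalk_surjective_of_epi (cokernel.π c) x v
    obtain ⟨s, rfl⟩ := surjective_homComap_stalk (isFP_of_isCoh h₂) (isFP_of_isCoh h₁) S.f G x
      ((extVan_one_iff hS hG x (hP x)).1 (h x hx)) t
    rw [← LinearMap.comp_apply, ← RefFun.stalkMapₗ_comp, cokernel.condition, stalkMapₗ_zero]
    rfl
  haveI : Epi c := Preadditive.epi_of_isZero_cokernel _ (W7Baer.isZero_of_stalks _ fun x =>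
    haveI : Subsingleton ((DerSch.stalkFunctor (CohB1.ProjSpace n k) x).obj E) := hz x
    ModuleCat.isZero_of_subsingleton _)
  haveI : Epi (RefFun.homComap S.f G) := ‹Epi c›
  have hT := shortExact_homSeq hS G
  obtain ⟨z, hz'⟩ := (CohFinite.δH_eq_zero_iff (CohFinite.shortExact_toAb hT) 0
    ((Sheaf.H.equiv₀ (Coh.toAb (RefHull.homSh S.X₁ G)) (isTerminalTop : IsTerminal (⊤ : (CohB1.ProjSpace n k).Opens))).symm
      (RefHull.ofHom φ ⊤))).1 (hH.elim _ _)
  have hn := h0_natural k (homSeq S G).g z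
  rw [show CohFinite.hhMap k (homSeq S G).g 0 z = _ from hz'] at hn
  replace hn := (AddEquiv.apply_symm_apply (Sheaf.H.equiv₀ (Coh.toAb (RefHull.homSh S.X₁ G))
    (isTerminalTop : IsTerminal (⊤ : (CohB1.ProjSpace n k).Opens))) (RefHull.ofHom φ ⊤)).symm.trans hn
  obtain ⟨ψ, hψ⟩ := RefStalk.exists_hom (Sheaf.H.equiv₀ (Coh.toAb (RefHull.homSh S.X₂ G))
    (isTerminalTop : IsTerminal (⊤ : (CohB1.ProjSpace n k).Opens)) z)
  refine ⟨ψ, hom_ext_stalk fun x => ?_⟩
  rw [RefFun.stalkMapₗ_comp, hψ x]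
  exact (congrFun (congrArg Subtype.val hn) ⟨x, trivial⟩).symm

variable (r N : ℕ)

/-- A sum of copies of `O(-N)`. -/
abbrev cover : (CohB1.ProjSpace n k).Modules := ∐ fun _ : Fin r => Om k n (-(N : ℤ))

lemma projective_stalk_cover (x : CohB1.ProjSpace n k) :
    Module.Projective ((CohB1.ProjSpace n k).presheaf.stalk x) ((cover (k := k) (n := n) r N).presheaf.stalk x) := by
  haveI : Module.Free ((CohB1.ProjSpace n k).presheaf.stalk x) ((cover (k := k) (n := n) r N).presheaf.stalk x) :=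
    LocFree.free_stalk_of_isFinLocFree (DerPerf.isFinLocFree_of_isColimit Finset.univ
      (coproductIsCoproduct (fun _ : Fin r => Om k n (-(N : ℤ)))) (fun i h => absurd (Finset.mem_univ i) h)
      fun _ _ => ResDesc.isFinLocFree_of_isInvertible (CohFinite.isInvertible_twist n k _)) x
  exact Module.Projective.of_free

lemma vanish_cover (hN : 1 ≤ N) (m : ℤ) (hm : 0 ≤ m) (q : ℕ) (hq : q < n) :
    Subsingleton (Coh.HH (CohB1.ProjSpace n k) (CohB1.tensorMod (cover (k := k) (n := n) r N) (Om k n (-m))) q) :=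
  Horrocks.hh_tw_sum (fun _ : Fin r => -(N : ℤ)) (-m) q fun _ => Horrocks.hh_tw_Om _ _ q (by omega) (by omega)

lemma exists_cover (F : (CohB1.ProjSpace n k).Modules) (hF : Coh.IsCoh F) :
    ∃ S : ShortComplex (CohB1.ProjSpace n k).Modules, S.ShortExact ∧ S.X₃ = F ∧ Coh.IsCoh S.X₁ ∧ Coh.IsCoh S.X₂ ∧
      (∀ x, Module.Projective ((CohB1.ProjSpace n k).presheaf.stalk x) (S.X₂.presheaf.stalk x)) ∧
      ∀ m : ℤ, 0 ≤ m → ∀ q, q < n →
        Subsingleton (Coh.HH (CohB1.ProjSpace n k) (CohB1.tensorMod S.X₂ (Om k n (-m))) q) := by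
  obtain ⟨N, r, p, hN, hp⟩ := exists_presentation F hF 1
  have hP := isCoh_sum (k := k) (n := n) (fun _ : Fin r => -(N : ℤ))
  exact ⟨ShortComplex.mk (kernel.ι p) p (kernel.condition p),
    { exact := ShortComplex.exact_of_f_is_kernel _ (kernelIsKernel p) }, rfl, isCoh_kernel' hP hF p, hP,
    projective_stalk_cover r N, fun m hm q hq => vanish_cover r N hN m hm q hq⟩

lemma vanish_homSh (F : (CohB1.ProjSpace n k).Modules) (hF : Coh.IsCoh F) :
    ∃ m₀ : ℤ, ∀ m : ℤ, m₀ ≤ m →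
      Subsingleton (Coh.HH (CohB1.ProjSpace n k) (RefHull.homSh F (Om k n (-((n : ℤ) + 1) + m))) 1) := by
  haveI := CohFinite.isNoetherian_projSpace n k
  have hC := RefStalk.isCoh_homSh hF (CohFinite.isCoh_twist n k (-((n : ℤ) + 1)))
  obtain ⟨m₁, hm₁⟩ := HorrocksPn.exists_regular (RefHull.homSh F (om k n)) hC
  refine ⟨m₁, fun m hm => ?_⟩
  obtain ⟨i⟩ := nonempty_homOm F m
  exact CohQC.hh_subsingleton_of_iso i.symm 1 (vanish_of_regular _ hC m₁ (hm₁ m₁ le_rfl) 1 m le_rfl (by omega))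

lemma subsingleton_sub_top_iff (q : ℕ) (hq : n = q + 1) (hS : S.ShortExact) (h₁ : Coh.IsCoh S.X₁) (h₂ : Coh.IsCoh S.X₂)
    (m : ℤ) (hP : Subsingleton (Coh.HH (CohB1.ProjSpace n k) (CohB1.tensorMod S.X₂ (Om k n (-m))) q)) :
    Subsingleton (Coh.HH (CohB1.ProjSpace n k) (Twist.twistBy (CohB1.polyGrading n k) S.X₃ (-m)) q) ↔
      ∀ φ : S.X₁ ⟶ Om k n (-((n : ℤ) + 1) + m), ∃ ψ, S.f ≫ ψ = φ := by
  subst hq
  let L := Om k (q + 1) (-m)
  have hT := CohFinite.shortExact_tmap (CohFinite.isInvertible_twist (q + 1) k (-m)) hS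
  let f := CohFinite.hhMap k (CohFinite.tmap S.f L) (q + 1)
  have hδ : Subsingleton (Coh.HH _ (CohB1.tensorMod S.X₃ L) q) ↔ Function.Injective f := by
    have hk : LinearMap.ker f = LinearMap.range (CohFinite.hhδ k hT q) := ker_hhMap_f k hT q
    rw [← LinearMap.ker_eq_bot, hk]
    constructor
    · intro h
      exact LinearMap.range_eq_bot.2 (LinearMap.ext fun x => by rw [h.elim x 0, map_zero, map_zero])
    · intro h
      refine subsingleton_of_forall_eq 0 fun x => hhδ_injective k hT q hP ?_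
      rw [LinearMap.range_eq_bot.1 h, LinearMap.zero_apply, LinearMap.zero_apply]
  obtain ⟨e, he⟩ := exists_adj (k := k) (n := q + 1) m
  show Subsingleton (Coh.HH _ (CohB1.tensorMod S.X₃ L) q) ↔ _
  rw [hδ, ← LinearMap.dualMap_surjective_iff]
  let a := pairEquiv (CohB1.tensorMod S.X₁ L) (Horrocks.isCoh_tw h₁ (-m))
  let b := pairEquiv (CohB1.tensorMod S.X₂ L) (Horrocks.isCoh_tw h₂ (-m))
  have hc : ∀ φ, a (CohFinite.tmap S.f L ≫ φ) = f.dualMap (b φ) := fun φ =>
    LinearMap.ext fun z => pair_comp (CohFinite.tmap S.f L) φ z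
  constructor
  · intro h φ
    obtain ⟨ξ, hξ⟩ := h (a ((e S.X₁).symm φ))
    obtain ⟨ψ, rfl⟩ := b.surjective ξ
    rw [← hc] at hξ
    refine ⟨e S.X₂ ψ, ?_⟩
    rw [← he, a.injective hξ, Equiv.apply_symm_apply]
  · intro h ξ
    obtain ⟨φ, rfl⟩ := a.surjective ξ
    obtain ⟨ψ, hψ⟩ := h (e S.X₁ φ)
    refine ⟨b ((e S.X₂).symm ψ), ?_⟩
    rw [← hc]
    refine congrArg a ((e S.X₁).injective ?_)
    rw [he, Equiv.apply_symm_apply, hψ]

/-- Serre's criterion: `H^i` dies in very negative twists exactly when the local `Ext^(n-i)` vanish. -/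
theorem van_extVan (j : ℕ) : ∀ (F : (CohB1.ProjSpace n k).Modules), Coh.IsCoh F → ∀ i, i + j = n →
    (Van F i → ∀ x, ExtVan F j x) ∧
      ((∀ x : CohB1.ProjSpace n k, IsClosed ({x} : Set (CohB1.ProjSpace n k)) → ExtVan F j x) → Van F i) := by
  induction j with
  | zero =>
    intro F hF i hi
    obtain rfl : i = n := hi
    exact ⟨extVan_zero_of_van F hF, van_of_extVan_zero F hF⟩
  | succ j ih =>
    intro F hF i hi
    obtain ⟨S, hS, rfl, h₁, h₂, hP, hV⟩ := exists_cover F hF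
    haveI := CohFinite.isNoetherian_projSpace n k
    rcases j with _ | j
    · refine ⟨fun ⟨m₀, hm₀⟩ x => ?_, fun h => ?_⟩
      · obtain ⟨N, hN⟩ := Horrocks.exists_gen_large (RefHull.homSh S.X₁ (om k n))
          (RefStalk.isCoh_homSh h₁ (CohFinite.isCoh_twist n k _))
        obtain ⟨M, hM₁, hM₂⟩ : ∃ M : ℕ, N ≤ M ∧ m₀ ≤ (M : ℤ) := ⟨max N m₀.toNat, le_max_left _ _, by omega⟩
        obtain ⟨e⟩ := nonempty_homOm S.X₁ (M : ℤ)
        exact extVan_one_of_gen hS (isLine_twist _) h₁ ((hN M hM₁).of_epi e.inv)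
          ((subsingleton_sub_top_iff i hi.symm hS h₁ h₂ M (hV M (by omega) i (by omega))).1 (hm₀ M hM₂)) x (hP x)
      · obtain ⟨m₁, hm₁⟩ := vanish_homSh S.X₃ hF
        exact ⟨max m₁ 0, fun m hm => (subsingleton_sub_top_iff i hi.symm hS h₁ h₂ m (hV m (by omega) i (by omega))).2
          (exists_extension hS (isLine_twist _) h₁ h₂ hP h (hm₁ m (by omega)))⟩
    · have hK := ih S.X₁ h₁ (i + 1) (by omega)
      have hloc : ∀ x, ExtVan S.X₃ (j + 1 + 1) x ↔ ExtVan S.X₁ (j + 1) x := fun x => by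
        haveI : Projective (stalkSeq S x).X₂ := (IsProjective.iff_projective (S.X₂.presheaf.stalk x)).mp (hP x)
        exact ext_succ_iff (S := stalkSeq S x) (hS.map_of_exact _) _ j
      refine ⟨fun ⟨m₀, hm₀⟩ x => (hloc x).2 (hK.1 ⟨max m₀ 0, fun m hm => ?_⟩ x), fun h => ?_⟩
      · have hT := CohFinite.shortExact_tmap (CohFinite.isInvertible_twist n k (-m)) hS
        refine subsingleton_of_forall_eq 0 fun y => ?_
        obtain ⟨w, hw⟩ := (CohFinite.map_f_eq_zero_iff (CohFinite.shortExact_toAb hT) i y).1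
          ((hV m (by omega) (i + 1) (by omega)).elim _ _)
        exact hw.symm.trans ((congrArg _ ((hm₀ m (by omega)).elim w 0)).trans (map_zero _))
      · obtain ⟨m₁, hm₁⟩ := hK.2 fun x hx => (hloc x).1 (h x hx)
        exact ⟨max m₁ 0, fun m hm => CohFinite.subsingleton_of_shortExact
          (CohFinite.shortExact_tmap (CohFinite.isInvertible_twist n k (-m)) hS) i (hV m (by omega) i (by omega))
          (hm₁ m (by omega))⟩

end Groth.Agent.SerrePn
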